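import Cfsg.Agent.Lib.J4Type19.M22Checks
import Cfsg.Agent.Lib.Fusion.Mathieu.Identify

/-!
# The facts on M22 used for groups of type J4: two kinds of elementary subgroups of order 16
-/

set_option autoImplicit false
set_option maxRecDepth 20000

namespace Cfsg.Agent.Lib.J4Type19

open Cfsg.Agent.Lib.Compute Cfsg.Agent.Lib.Compute.Mathieu
open Cfsg.Agent.Lib.Fusion (memCode memCode_iff)

/-- The facts. -/
structure MFacts (M : Type*) [Group M] : Type _ where
  U0 : Subgroup M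
  U2 : Subgroup M
  card0 : Nat.card U0 = 16
  card2 : Nat.card U2 = 16
  sq0 : ∀ x ∈ U0, x * x = 1
  sq2 : ∀ x ∈ U2, x * x = 1
  a : M
  y : M
  a3 : a ^ 3 = 1
  a1 : a ≠ 1
  y4 : y ^ 4 = 1
  ab : Commute a (y * a * y⁻¹)
  b1 : y * a * y⁻¹ ≠ 1
  ba : y * a * y⁻¹ ≠ a
  ba' : y * a * y⁻¹ ≠ a⁻¹
  yb : y * (y * a * y⁻¹) * y⁻¹ = a⁻¹
  na : ∀ x ∈ U0, a * x * a⁻¹ ∈ U0
  nb : ∀ x ∈ U0, (y * a * y⁻¹) * x * (y * a * y⁻¹)⁻¹ ∈ U0
  trans : ∃ u ∈ U0, u ≠ 1 ∧ ∀ x ∈ U0, x ≠ 1 → ∃ g : M, (∀ v ∈ U0, g * v * g⁻¹ ∈ U0) ∧ g * u * g⁻¹ = x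
  c : M
  f : M
  n₁ : M
  n₂ : M
  c3 : c ^ 3 = 1
  nc : ∀ x ∈ U0, c * x * c⁻¹ ∈ U0
  hn₁ : ∀ x ∈ U2, n₁ * x * n₁⁻¹ ∈ U2
  hn₂ : ∀ x ∈ U2, n₂ * x * n₂⁻¹ ∈ U2
  f0 : f ∈ U0
  f2 : f ∈ U2
  f1 : f ≠ 1
  cf : Commute c f
  gen : Subgroup.closure {n₁, n₂, c} = ⊤
  inv_conj : ∀ x x' : M, orderOf x = 2 → orderOf x' = 2 → IsConj x x'
  P0 : Subgroup M
  sylow : ∀ S : Subgroup M, IsPGroup 2 S → ∃ g : M, ∀ s ∈ S, g * s * g⁻¹ ∈ P0
  small : ∀ A : Subgroup M, A ≤ P0 → (∀ x ∈ A, x * x = 1) →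
    Nat.card A ≤ 16 ∧ (Nat.card A = 16 → A = U0 ∨ A = U2)
  simple : IsSimpleGroup M
  card : Nat.card M = 443520

/-- The certified group as a type. -/
abbrev MG : Type := ↥m22Group
local notation "en" => m22Enc

theorem lift_lit {p : ℕ × ℕ} (h : p ∈ litList) : ∃ g : MG, en g = p.1 ∧ en g⁻¹ = p.2 :=
  m22_lift (List.all_eq_true.1 lits_ok p h)

theorem enc_mul (g h : MG) : en (g * h) = mc (en g) (en h) := m22Enc_mul g h

theorem card_of_codes {α : Type*} (U : Set α) (e : α → ℕ) (hinj : Function.Injective e) (L : List ℕ) (hnd : L.Nodup)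
    (hiff : ∀ x, x ∈ U ↔ e x ∈ L) (hsurj : ∀ c ∈ L, ∃ x, e x = c) : Nat.card U = L.length := by
  classical
  rw [← List.toFinset_card_of_nodup hnd, Nat.card_coe_set_eq, ← Set.ncard_coe_finset,
    ← Set.ncard_image_of_injective U hinj]
  congr 1
  ext c
  constructor
  · rintro ⟨x, hx, rfl⟩; exact List.mem_toFinset.2 ((hiff x).1 hx)
  · intro hc
    obtain ⟨x, rfl⟩ := hsurj c (List.mem_toFinset.1 hc)
    exact ⟨x, (hiff x).2 (List.mem_toFinset.1 hc), rfl⟩

theorem card_le_of_codes {α : Type*} (U : Set α) (e : α → ℕ) (hinj : Function.Injective e) (L : List ℕ)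
    (h : ∀ x ∈ U, e x ∈ L) : Nat.card U ≤ L.length := by
  classical
  refine le_trans ?_ (List.toFinset_card_le L)
  rw [Nat.card_coe_set_eq, ← Set.ncard_coe_finset, ← Set.ncard_image_of_injective U hinj]
  refine Set.ncard_le_ncard ?_ (Finset.finite_toSet _)
  rintro c ⟨x, hx, rfl⟩
  exact List.mem_toFinset.2 (h x hx)

theorem comm_of_sq_all {α : Type*} [Group α] {A : Subgroup α} (h : ∀ x ∈ A, x * x = 1) {p q : α} (hp : p ∈ A) (hq : q ∈ A) :
    p * q = q * p := by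
  have hi : ∀ {x : α}, x ∈ A → x⁻¹ = x := fun hx => inv_eq_of_mul_eq_one_right (h _ hx)
  rw [← hi (mul_mem hp hq), mul_inv_rev, hi hp, hi hq]

theorem exists_sub {L : List (ℕ × ℕ)} (hL : ∀ p ∈ L, p ∈ litList) (hok : elemOK (L.map Prod.fst) = true) :
    ∃ U : Subgroup MG, (∀ g, g ∈ U ↔ en g ∈ L.map Prod.fst) ∧ Nat.card U = 16 ∧ ∀ x ∈ U, x * x = 1 := by
  simp only [elemOK, Bool.and_eq_true, decide_eq_true_eq, List.all_eq_true, memCode_iff] at hok
  obtain ⟨⟨⟨⟨h1, hnd⟩, hlen⟩, hsq⟩, hmul⟩ := hok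
  have hsq' : ∀ x : MG, en x ∈ L.map Prod.fst → x * x = 1 := fun x hx => m22Enc_inj (by
    rw [enc_mul, m22Enc_one]; exact Nat.eq_of_beq_eq_true (hsq _ hx))
  let U : Subgroup MG :=
    { carrier := {g | en g ∈ L.map Prod.fst}
      one_mem' := by show en 1 ∈ L.map Prod.fst; rw [m22Enc_one]; exact h1
      mul_mem' := fun {x x'} hx hx' => by
        show en (x * x') ∈ L.map Prod.fst
        rw [enc_mul]; exact hmul _ hx _ hx'
      inv_mem' := fun {x} hx => by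
        show en x⁻¹ ∈ L.map Prod.fst
        rwa [inv_eq_of_mul_eq_one_right (hsq' x hx)] }
  refine ⟨U, fun g => Iff.rfl, ?_, hsq'⟩
  have hc : Nat.card U = (L.map Prod.fst).length :=
    card_of_codes (U : Set MG) en m22Enc_inj _ hnd (fun x => Iff.rfl) (fun v hv => by
      obtain ⟨p, hp, hpe⟩ := List.mem_map.1 hv
      obtain ⟨g, hg, -⟩ := lift_lit (hL p hp)
      exact ⟨g, hg.trans hpe⟩)
  rw [hc]
  exact Nat.eq_of_beq_eq_true hlen

theorem norm_of {g : MG} {p : ℕ × ℕ} (h1 : en g = p.1) (h2 : en g⁻¹ = p.2) {L : List ℕ} (hok : normOK p L = true)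
    {x : MG} (hx : en x ∈ L) : en (g * x * g⁻¹) ∈ L := by
  rw [normOK, List.all_eq_true] at hok
  have := memCode_iff.1 (hok _ hx)
  rwa [enc_mul, enc_mul, h1, h2]

theorem beq_mul {p q r : ℕ} (h : Nat.beq (mc p q) r = true) : mc p q = r := Nat.eq_of_beq_eq_true h

theorem ne_of_not_beq {g g' : MG} (h : (!Nat.beq (en g) (en g')) = true) : g ≠ g' := fun e => by
  subst e
  simp at h

theorem exists_mFacts_u0 : ∃ F : MFacts MG, ∀ g, g ∈ F.U0 ↔ en g ∈ Data.u0.map Prod.fst := by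
  classical
  obtain ⟨U0, hU0, card0, sq0⟩ := exists_sub (L := Data.u0) (fun p hp => by simp [litList, hp]) u0_ok
  obtain ⟨U2, hU2, card2, sq2⟩ := exists_sub (L := Data.u2) (fun p hp => by simp [litList, hp]) u2_ok
  obtain ⟨a, ha, ha'⟩ := lift_lit (p := Data.ela) (by simp [litList])
  obtain ⟨y, hy, hy'⟩ := lift_lit (p := Data.ely) (by simp [litList])
  obtain ⟨f, hf, -⟩ := lift_lit (p := Data.fix0) (by simp [litList])
  obtain ⟨c, hc, hc'⟩ := lift_lit (p := Data.elc) (by simp [litList])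
  obtain ⟨n₁, hn1, hn1'⟩ := lift_lit (p := Data.gn1) (by simp [litList])
  obtain ⟨n₂, hn2, hn2'⟩ := lift_lit (p := Data.gn2) (by simp [litList])
  obtain ⟨u, hu, -⟩ := lift_lit (p := Data.inv0) (by simp [litList])
  have hone : en 1 = c1 := m22Enc_one
  have hb : en (y * a * y⁻¹) = cb := by rw [enc_mul, enc_mul, hy, ha, hy']; rfl
  have hb' : en (y * a * y⁻¹)⁻¹ = mc (mc Data.ely.1 Data.ela.2) Data.ely.2 := by
    rw [show (y * a * y⁻¹)⁻¹ = y * a⁻¹ * y⁻¹ by group, enc_mul, enc_mul, hy, ha', hy']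
  have hay := ay_ok
  simp only [Bool.and_eq_true] at hay
  obtain ⟨⟨⟨⟨⟨⟨⟨h3, h1⟩, h4⟩, hab⟩, hb1⟩, hba⟩, hba'⟩, hyb⟩ := hay
  have hna := norm_a
  rw [Bool.and_eq_true] at hna
  have htr := trans_ok
  simp only [Bool.and_eq_true, List.all_eq_true, memCode_iff] at htr
  obtain ⟨⟨⟨hgs, hu0⟩, hu1⟩, htr⟩ := htr
  have hck := c_ok
  simp only [Bool.and_eq_true, memCode_iff] at hck
  obtain ⟨⟨⟨⟨⟨⟨⟨hc3, hnc⟩, hk1⟩, hk2⟩, hf0⟩, hf2⟩, hf1⟩, hcf⟩ := hck
  have : Fact (Nat.Prime 2) := ⟨Nat.prime_two⟩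
  have hs := Fusion.Mathieu.m22Sylow_ok
  simp only [Fusion.sylowCheck, Bool.and_eq_true] at hs
  obtain ⟨⟨⟨⟨⟨⟨⟨⟨hPS, hLP⟩, hsz⟩, -⟩, -⟩, -⟩, -⟩, -⟩, -⟩ := hs
  obtain ⟨hok, hle⟩ := gensOK_of_pairCheck ptEquiv _ gensOK_m22 m22Chain_ok hPS
  set C := permCoding 8 ptEquiv (by decide : 24 ≤ 2 ^ 8)
  set P := genGroup C Fusion.Mathieu.m22Fus.PS with hPdef
  have hPH : P ≤ m22Group := hle
  have hsize : Nat.card (P.subgroupOf m22Group) = 2 ^ (Nat.card m22Group).factorization 2 := by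
    rw [Nat.card_congr (Subgroup.subgroupOfEquivOfLe hPH).toEquiv, hPdef,
      card_genGroup C hok hLP, Nat.eq_of_beq_eq_true hsz, card_m22]
    have : (443520 : ℕ) = 2 ^ 7 * 3465 := by norm_num
    rw [this, Nat.factorization_mul (by norm_num) (by norm_num),
      Nat.Prime.factorization_pow Nat.prime_two]
    simp [Nat.factorization_eq_zero_of_not_dvd (by norm_num : ¬ 2 ∣ 3465), Fusion.Mathieu.m22Fus]
  let S₀ : Sylow 2 MG := Sylow.ofCard (P.subgroupOf m22Group) hsize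
  have hmemP : ∀ x : MG, x ∈ (S₀ : Subgroup MG) → en x ∈ elems (permOps 8 24) Fusion.Mathieu.m22SylChain :=
    fun x hx => enc_mem_elems _ hok hLP hx
  refine ⟨{ U0 := U0, U2 := U2, card0 := card0, card2 := card2, sq0 := sq0, sq2 := sq2, a := a, y := y
            c := c, f := f, n₁ := n₁, n₂ := n₂, P0 := (S₀ : Subgroup MG)
            a3 := ?_, a1 := ?_, y4 := ?_, ab := ?_, b1 := ?_, ba := ?_, ba' := ?_, yb := ?_, na := ?_, nb := ?_
            trans := ?_, c3 := ?_, nc := ?_, hn₁ := ?_, hn₂ := ?_, f0 := ?_, f2 := ?_, f1 := ?_, cf := ?_, gen := ?_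
            inv_conj := ?_, sylow := ?_, small := ?_, simple := isSimpleGroup_m22, card := card_m22 }, hU0⟩
  · apply m22Enc_inj
    rw [pow_succ, pow_two, mul_assoc, enc_mul, enc_mul, ha, hone]
    exact beq_mul h3
  · exact ne_of_not_beq (by rw [ha, hone]; exact h1)
  · apply m22Enc_inj
    rw [show y ^ 4 = y * y * (y * y) by simp [pow_succ, mul_assoc], enc_mul, enc_mul, hy, hone]
    exact beq_mul h4
  · apply m22Enc_inj
    show en (a * (y * a * y⁻¹)) = en (y * a * y⁻¹ * a)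
    rw [enc_mul a, enc_mul (y * a * y⁻¹), ha, hb]
    exact beq_mul hab
  · exact ne_of_not_beq (by rw [hb, hone]; exact hb1)
  · exact ne_of_not_beq (by rw [hb, ha]; exact hba)
  · exact ne_of_not_beq (by rw [hb, ha']; exact hba')
  · apply m22Enc_inj
    rw [enc_mul (y * (y * a * y⁻¹)), enc_mul y, hy, hb, hy', ha']
    exact beq_mul hyb
  · exact fun x hx => (hU0 _).2 (norm_of ha ha' hna.1 ((hU0 _).1 hx))
  · exact fun x hx => (hU0 _).2 (norm_of (p := (cb, _)) hb hb' hna.2 ((hU0 _).1 hx))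
  · refine ⟨u, (hU0 _).2 (hu ▸ hu0), ne_of_not_beq (by rw [hu, hone]; exact hu1), fun x hx hx1 => ?_⟩
    have h := htr _ ((hU0 _).1 hx)
    rw [Bool.or_eq_true, List.any_eq_true] at h
    rcases h with h | ⟨p, hp, h⟩
    · exact absurd (m22Enc_inj ((Nat.eq_of_beq_eq_true h).trans hone.symm)) hx1
    · obtain ⟨g, hg, hg'⟩ := lift_lit (p := p) (by simp [litList, hp])
      refine ⟨g, fun v hv => (hU0 _).2 (norm_of hg hg' (hgs p hp) ((hU0 _).1 hv)), m22Enc_inj ?_⟩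
      rw [enc_mul, enc_mul, hg, hu, hg']
      exact beq_mul h
  · apply m22Enc_inj
    rw [pow_succ, pow_two, mul_assoc, enc_mul, enc_mul, hc, hone]
    exact beq_mul hc3
  · exact fun x hx => (hU0 _).2 (norm_of hc hc' hnc ((hU0 _).1 hx))
  · exact fun x hx => (hU2 _).2 (norm_of hn1 hn1' hk1 ((hU2 _).1 hx))
  · exact fun x hx => (hU2 _).2 (norm_of hn2 hn2' hk2 ((hU2 _).1 hx))
  · exact (hU0 _).2 (hf ▸ hf0)
  · exact (hU2 _).2 (hf ▸ hf2)
  · exact ne_of_not_beq (by rw [hf, hone]; exact hf1)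
  · apply m22Enc_inj
    show en (c * f) = en (f * c)
    rw [enc_mul c, enc_mul f, hc, hf]
    exact beq_mul hcf
  · set K : Subgroup MG := Subgroup.closure {n₁, n₂, c} with hK
    have hval : ∀ l : List ℕ, ∃ k ∈ K, en k = wval l := by
      intro l
      induction l with
      | nil => exact ⟨1, one_mem _, hone⟩
      | cons j l ih =>
        obtain ⟨k, hk, hke⟩ := ih
        show ∃ k ∈ K, en k = mc _ (wval l)
        rcases j with _ | _ | _ | j
        · exact ⟨n₁ * k, mul_mem (Subgroup.subset_closure (by simp)) hk, by rw [enc_mul, hn1, hke]; rfl⟩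
        · exact ⟨n₂ * k, mul_mem (Subgroup.subset_closure (by simp)) hk, by rw [enc_mul, hn2, hke]; rfl⟩
        · exact ⟨c * k, mul_mem (Subgroup.subset_closure (by simp)) hk, by rw [enc_mul, hc, hke]; rfl⟩
        · exact ⟨1 * k, mul_mem (one_mem _) hk, by rw [enc_mul, hone, hke]; simp⟩
    refine Subgroup.map_injective (Subgroup.subtype_injective _) (le_antisymm (Subgroup.map_mono le_top) ?_)
    rw [← MonoidHom.range_eq_map, Subgroup.range_subtype]
    refine (Subgroup.closure_le _).2 ?_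
    rintro g ⟨p, hp, hg⟩
    have hmem : p.1 ∈ Data.words.map wval := words_ok ▸ List.mem_map_of_mem hp
    obtain ⟨l, -, hl⟩ := List.mem_map.1 hmem
    obtain ⟨k, hk, hke⟩ := hval l
    exact ⟨k, hk, ptCoding.inj ((hke.trans hl).trans hg.symm)⟩
  · obtain ⟨t, -, hall, -⟩ := m22_involution
    exact fun x x' hx hx' => (hall x hx).trans (hall x' hx').symm
  · intro S hS
    obtain ⟨T, hT⟩ := hS.exists_le_sylow
    obtain ⟨g, hg⟩ := MulAction.exists_smul_eq MG T S₀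
    refine ⟨g, fun s hs => ?_⟩
    rw [← hg, Sylow.coe_subgroup_smul]
    exact ⟨s, hT hs, by simp⟩
  · intro A hA hsq
    have hsub : (∀ x ∈ A, x ∈ U0 ∨ x ∈ U2) → Nat.card A ≤ 16 ∧ (Nat.card A = 16 → A = U0 ∨ A = U2) := by
      intro hall
      have hor : A ≤ U0 ∨ A ≤ U2 := by
        by_contra hno
        rw [not_or] at hno
        obtain ⟨p, hp, hp0⟩ := SetLike.not_le_iff_exists.1 hno.1
        obtain ⟨q, hq, hq2⟩ := SetLike.not_le_iff_exists.1 hno.2
        rcases hall _ (mul_mem hp hq) with h | h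
        · exact hp0 (by simpa using mul_mem h (inv_mem ((hall q hq).resolve_right hq2)))
        · exact hq2 (by simpa using mul_mem (inv_mem ((hall p hp).resolve_left hp0)) h)
      rcases hor with h | h
      · exact ⟨card0 ▸ Subgroup.card_le_of_le h, fun he => Or.inl (Subgroup.eq_of_le_of_card_ge h (by omega))⟩
      · exact ⟨card2 ▸ Subgroup.card_le_of_le h, fun he => Or.inr (Subgroup.eq_of_le_of_card_ge h (by omega))⟩
    by_cases hall : ∀ x ∈ A, x ∈ U0 ∨ x ∈ U2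
    · exact hsub hall
    push Not at hall
    obtain ⟨x, hx, hx0, hx2⟩ := hall
    have hcomm : ∀ p ∈ A, ∀ q ∈ A, mc (en p) (en q) = mc (en q) (en p) := fun p hp q hq => by
      rw [← enc_mul, ← enc_mul, comm_of_sq_all hsq hp hq]
    have hmem : ∀ p ∈ A, en p ∈ sqOne := fun p hp => List.mem_filter.2 ⟨hmemP p (hA hp), by
      rw [← enc_mul, hsq p hp, hone]; exact Nat.beq_refl _⟩
    have hxbad : en x ∈ badInv := by
      refine List.mem_filter.2 ⟨hmemP x (hA hx), ?_⟩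
      simp only [Bool.and_eq_true, Bool.not_eq_true']
      refine ⟨⟨by rw [← enc_mul, hsq x hx, hone]; exact Nat.beq_refl _, ?_⟩, ?_⟩ <;>
        refine Bool.eq_false_iff.2 fun h => ?_
      · exact hx0 ((hU0 x).2 (memCode_iff.1 h))
      · exact hx2 ((hU2 x).2 (memCode_iff.1 h))
    have key := List.all_eq_true.1 no_other _ hxbad
    simp only [forceNat_eq, List.all_eq_true, Bool.or_eq_true, memCode_iff] at key
    have hcl : ∀ {p q : MG} {L : List ℕ}, p ∈ A → q ∈ A → en q ∈ L → en q ∈ commL (en p) L := fun hp hq hL =>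
      List.mem_filter.2 ⟨hL, by rw [hcomm _ hp _ hq]; exact Nat.beq_refl _⟩
    have small : ∀ L : List ℕ, L.length ≤ 8 → (∀ w ∈ A, en w ∈ L) → Nat.card A ≤ 8 := fun L hL h =>
      (card_le_of_codes (A : Set MG) en m22Enc_inj L h).trans hL
    have h8 : Nat.card A ≤ 8 := by
      by_cases hy : ∃ p ∈ A, en p ≠ c1 ∧ en p ≠ en x
      · obtain ⟨p, hp, hp1, hpx⟩ := hy
        have key2 := key (en p) (hcl hx hp (hmem p hp))
        rcases key2 with (h | h) | key2
        · exact absurd (Nat.eq_of_beq_eq_true h) hp1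
        · exact absurd (Nat.eq_of_beq_eq_true h) hpx
        by_cases hz : ∃ q ∈ A, en q ∉ [c1, en x, en p, mc (en x) (en p)]
        · obtain ⟨q, hq, hq'⟩ := hz
          have key3 := (key2 (en q) (hcl hp hq (hcl hx hq (hmem q hq)))).resolve_left hq'
          exact small _ (le_refl _) fun w hw => key3 (en w) (hcl hq hw (hcl hp hw (hcl hx hw (hmem w hw))))
        · push Not at hz
          exact (small [c1, en x, en p, mc (en x) (en p)] (by simp) hz)
      · push Not at hy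
        exact small [c1, en x] (by simp) fun w hw => by
          by_cases h : en w = c1
          · simp [h]
          · simp [hy w hw h]
    exact ⟨by omega, fun he => by omega⟩

theorem exists_mFacts_gen : Nonempty (MFacts MG) := ⟨exists_mFacts_u0.choose⟩

theorem exists_mFacts : Nonempty (MFacts ↥Cfsg.Spor.M22) := by
  rw [Fusion.Mathieu.eq_m22]
  exact exists_mFacts_gen

end Cfsg.Agent.Lib.J4Type19
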