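import Cfsg.Agent.Lib.J4Type19.Eigen

/-!
# An involution of M22 fixes a space of dimension eight
-/

set_option autoImplicit false

namespace Cfsg.Agent.Lib.J4Type19

variable {C V M : Type*} [Group C] [AddCommGroup V] [DistribMulAction C V] [Group M]

/-- The vectors fixed by one element. -/
def fixElt (c : C) : AddSubgroup V where
  carrier := {v | c • v = v}
  zero_mem' := smul_zero c
  add_mem' := fun {u v} (hu : c • u = u) (hv : c • v = v) => by
    show c • (u + v) = u + v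
    rw [smul_add, hu, hv]
  neg_mem' := fun {v} (hv : c • v = v) => by
    show c • (-v) = -v
    rw [smul_neg, hv]

namespace JMod

variable (J : JMod C V M) {F : MFacts M} (L : Lifts J F)
include J

theorem y_sq_ne : F.y * F.y ≠ 1 := fun h => by
  have hi : F.a⁻¹ = F.a := by
    rw [← F.yb]
    calc F.y * (F.y * F.a * F.y⁻¹) * F.y⁻¹ = (F.y * F.y) * F.a * (F.y * F.y)⁻¹ := by group
      _ = F.a := by rw [h]; group
  apply F.a1
  calc F.a = F.a ^ 3 := by rw [pow_succ, pow_two]; nth_rw 2 [← hi]; rw [inv_mul_cancel, one_mul]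
    _ = 1 := F.a3

include L

theorem πi : J.π (L.y * L.y) = F.y * F.y := by rw [map_mul, L.πy]

theorem πi_sq : J.π (L.y * L.y) * J.π (L.y * L.y) = 1 := by
  rw [J.πi L, ← F.y4]; simp [pow_succ, mul_assoc]

theorem i4 : (L.y * L.y) ^ 4 = 1 := by rw [← pow_two, ← pow_mul]; exact L.y8

theorem a_i (v : V) : L.a • (L.y * L.y) • v = (L.y * L.y) • L.a • L.a • v := by
  have h1 : L.y * L.y * L.a = L.a⁻¹ * (L.y * L.y) := mul_inv_eq_iff_eq_mul.1 L.inv
  have h2 : L.a * L.a = L.a⁻¹ := by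
    refine eq_inv_of_mul_eq_one_left ?_
    rw [← L.a3]; simp [pow_succ, mul_assoc]
  have h3 : L.y * L.y * (L.a * L.a) = L.a * (L.y * L.y) := by
    calc L.y * L.y * (L.a * L.a) = L.a⁻¹ * (L.y * L.y) * L.a := by rw [← mul_assoc, h1]
      _ = L.a⁻¹ * (L.a⁻¹ * (L.y * L.y)) := by rw [mul_assoc, h1]
      _ = L.a * (L.y * L.y) := by rw [← mul_assoc, ← h2]; congr 1; rw [← mul_assoc]; 
                                  conv_rhs => rw [← mul_one L.a, ← L.a3]
                                  simp [pow_succ, mul_assoc]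
  rw [← mul_smul, ← h3, mul_smul, mul_smul L.a L.a]

theorem i_eig {k : ℕ} {v : V} (hv : v ∈ J.eig L.a k) : (L.y * L.y) • v ∈ J.eig L.a (2 * k) := by
  have h : L.a • v = J.ω ^ k • v := hv
  show L.a • _ = _
  rw [J.a_i L, h, ← J.ωpow_comm k L.a, h, J.ωpow_add, two_mul, J.ωpow_comm]

/-- The endomorphism induced by `y` on the fixed points of `a`. -/
def yhat : V →+ V where
  toFun v := J.proj L.a 0 (L.y • v)
  map_zero' := by simp [proj]
  map_add' := fun u v => by rw [smul_add, J.proj_add]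

theorem yhat_ω (v : V) : J.yhat L (J.ω • v) = J.ω • J.yhat L v := by
  show J.proj L.a 0 _ = J.ω • J.proj L.a 0 _
  simp only [proj, mul_zero, pow_zero, one_smul, smul_add, J.ω_comm]

theorem yhat_sq {v : V} (hv : v ∈ J.eig L.a 0) : J.yhat L (J.yhat L v) = (L.y * L.y) • v := by
  obtain ⟨u, hu⟩ : ∃ u, u = (L.y * L.y) • v := ⟨_, rfl⟩
  have hu0 : u ∈ J.eig L.a 0 := hu ▸ (by simpa using J.i_eig L hv)
  obtain ⟨b, hb⟩ : ∃ b, b = L.y * L.a * L.y⁻¹ := ⟨_, rfl⟩
  have hby : ∀ w : V, L.y • L.a • w = b • L.y • w := fun w => by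
    rw [← mul_smul, ← mul_smul, hb, inv_mul_cancel_right]
  have e1 : L.y • J.yhat L v = u + b • u + b • b • u := by
    show L.y • J.proj L.a 0 (L.y • v) = _
    simp only [proj, mul_zero, pow_zero, one_smul, smul_add, hby]
    rw [hu, mul_smul]
  have hbe : ∀ {k : ℕ} {w : V}, w ∈ J.eig L.a k → b • w ∈ J.eig L.a (k + L.e) := fun {k w} hw => by
    have h : L.a • w = J.ω ^ k • w := hw
    show L.a • b • w = _
    rw [← mul_smul, hb, L.comm, mul_smul, mul_smul (L.y * L.a * L.y⁻¹) L.a, h, ← J.ωpow_comm, J.ωpow_add, add_comm]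
  show J.proj L.a 0 (L.y • J.yhat L v) = _
  have he := L.e_ne
  rw [e1, J.proj_add, J.proj_add, J.proj_eig hu0, J.proj_eig (hbe hu0), J.proj_eig (hbe (hbe hu0)), if_pos rfl,
    if_neg (by omega), if_neg (by omega), add_zero, add_zero, hu]

theorem yhat_mem (v : V) : J.yhat L v ∈ J.eig L.a 0 := J.proj_mem L.a3 0 _

theorem i_fix_zero {v : V} (hv : v ∈ J.eig L.a 0) : (L.y * L.y) • v = v := by
  classical
  have := J.finiteV
  let f := J.yhat L
  let g : V →+ V := f + AddMonoidHom.id V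
  let h : V →+ V := g.comp g
  have hh : ∀ w, h w = f (f w) + w := fun w => by
    show g (g w) = _
    simp only [g, AddMonoidHom.add_apply, AddMonoidHom.id_apply, map_add]
    calc f (f w) + f w + (f w + w) = f (f w) + w + (f w + f w) := by abel
      _ = _ := by rw [J.two, add_zero]
  have hg0 : ∀ w ∈ J.eig L.a 0, g w ∈ J.eig L.a 0 := fun w hw => add_mem (J.yhat_mem L w) hw
  have hi : ∀ w ∈ J.eig L.a 0, h w = (L.y * L.y) • w + w := fun w hw => by rw [hh, J.yhat_sq L hw]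
  have hh2 : ∀ w ∈ J.eig L.a 0, h (h w) = 0 := fun w hw => by
    have hiw : (L.y * L.y) • w + w ∈ J.eig L.a 0 := add_mem (by simpa using J.i_eig L hw) hw
    rw [hi w hw, hi _ hiw, smul_add, J.lift_sq_smul (J.πi_sq L) (J.i4 L)]
    calc w + (L.y * L.y) • w + ((L.y * L.y) • w + w)
        = (w + w) + ((L.y * L.y) • w + (L.y * L.y) • w) := by abel
      _ = 0 := by rw [J.two, J.two, add_zero]
  set R₁ : AddSubgroup V := (J.eig L.a 0).map g with hR1
  set R₂ : AddSubgroup V := R₁.map g with hR2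
  have h10 : R₁ ≤ J.eig L.a 0 := by rintro _ ⟨w, hw, rfl⟩; exact hg0 w hw
  have h21 : R₂ ≤ R₁ := AddSubgroup.map_mono h10
  suffices hR : R₂ = ⊥ by
    have : h v ∈ R₂ := ⟨g v, ⟨v, hv, rfl⟩, rfl⟩
    rw [hR, AddSubgroup.mem_bot, hi v hv] at this
    have h' := eq_neg_of_add_eq_zero_left this
    rwa [J.neg_eq] at h'
  by_contra hne
  have hωg : ∀ w, g (J.ω • w) = J.ω • g w := fun w => by
    simp only [g, f, AddMonoidHom.add_apply, AddMonoidHom.id_apply, smul_add, J.yhat_ω L]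
  have hω1 : ∀ w ∈ R₁, J.ω • w ∈ R₁ := by
    rintro _ ⟨w, hw, rfl⟩
    refine ⟨J.ω • w, ?_, hωg w⟩
    show L.a • J.ω • w = J.ω ^ 0 • J.ω • w
    rw [← J.ω_comm, show L.a • w = _ from hw, pow_zero, one_smul, one_smul]
  have hω2 : ∀ w ∈ R₂, J.ω • w ∈ R₂ := by
    rintro _ ⟨w, hw, rfl⟩; exact ⟨J.ω • w, hω1 w hw, hωg w⟩
  -- the images decrease strictly
  have hlt10 : R₁ ≠ J.eig L.a 0 := fun e => hne (by
    have e2 : R₂ = J.eig L.a 0 := by rw [hR2, e, ← hR1, e]
    rw [e2, eq_bot_iff]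
    intro w hw
    rw [← e2] at hw
    obtain ⟨w₁, hw₁, rfl⟩ := hw
    obtain ⟨w₀, hw₀, rfl⟩ := hw₁
    have h0' : w₀ ∈ R₂ := e2.symm ▸ hw₀
    obtain ⟨w₁, ⟨w₂, hw₂, rfl⟩, rfl⟩ := h0'
    exact AddSubgroup.mem_bot.2 (hh2 w₂ hw₂))
  have hlt21 : R₂ ≠ R₁ := fun e => hne (by
    rw [eq_bot_iff]
    intro w hw
    obtain ⟨w₁, hw₁, rfl⟩ := hw
    rw [← e] at hw₁
    obtain ⟨w₂, hw₂, rfl⟩ := hw₁
    rw [← e] at hw₂
    obtain ⟨w₃, ⟨w₄, hw₄, rfl⟩, rfl⟩ := hw₂
    exact AddSubgroup.mem_bot.2 (hh2 w₄ hw₄))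
  have c0 := J.card_eig L 0 (by norm_num)
  have l1 : Nat.card R₁ < 16 := c0 ▸ Set.Finite.card_lt_card (Set.toFinite _) (lt_of_le_of_ne h10 fun h => hlt10 (SetLike.coe_injective h))
  have l2 : Nat.card R₂ < Nat.card R₁ := Set.Finite.card_lt_card (Set.toFinite _) (lt_of_le_of_ne h21 fun h => hlt21 (SetLike.coe_injective h))
  have l3 : 1 < Nat.card R₂ := by
    rcases Nat.lt_or_ge 1 (Nat.card R₂) with h | h
    · exact h
    · exact absurd ((AddSubgroup.card_le_one_iff_eq_bot _).1 h) hne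
  obtain ⟨e1, -, he1⟩ := J.card_pow R₁ hω1
  obtain ⟨e2, -, he2⟩ := J.card_pow R₂ hω2
  rw [he1] at l1 l2
  rw [he2] at l2 l3
  have a1 : e1 < 2 := (Nat.pow_lt_pow_iff_right (by norm_num : 1 < 4)).1 (by simpa using l1)
  have a2 : e2 < e1 := (Nat.pow_lt_pow_iff_right (by norm_num : 1 < 4)).1 l2
  obtain rfl : e2 = 0 := by omega
  simp at l3

theorem card_fix_i : Nat.card ↥(fixElt (V := V) (L.y * L.y)) = 2 ^ 8 := by
  classical
  have := J.finiteV
  obtain ⟨i, hi⟩ : ∃ i, i = L.y * L.y := ⟨_, rfl⟩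
  have hii : ∀ w : V, i • i • w = w := fun w => hi ▸ J.lift_sq_smul (J.πi_sq L) (J.i4 L) w
  let Φ : (↥(J.eig L.a 0) × ↥(J.eig L.a 1)) → ↥(fixElt (V := V) i) := fun q => ⟨(q.1 : V) + q.2 + i • (q.2 : V), by
    show i • _ = _
    rw [smul_add, smul_add, hii, show i • (q.1 : V) = (q.1 : V) from hi ▸ J.i_fix_zero L q.1.2]
    abel⟩
  have hΦ : Function.Bijective Φ := by
    constructor
    · intro q q' h
      have h' : (q.1 : V) + q.2 + i • (q.2 : V) = (q'.1 : V) + q'.2 + i • (q'.2 : V) := congrArg Subtype.val h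
      have h2 : ∀ w : ↥(J.eig L.a 1), i • (w : V) ∈ J.eig L.a 2 := fun w => hi ▸ J.i_eig L w.2
      have e0 := congrArg (J.proj L.a 0) h'
      have e1 := congrArg (J.proj L.a 1) h'
      simp only [J.proj_add, J.proj_eig q.1.2, J.proj_eig q.2.2, J.proj_eig (h2 q.2),
        J.proj_eig q'.1.2, J.proj_eig q'.2.2, J.proj_eig (h2 q'.2)] at e0 e1
      norm_num at e0 e1
      exact Prod.ext e0 e1
    · rintro ⟨v, hv⟩
      refine ⟨(⟨_, J.proj_mem L.a3 0 v⟩, ⟨_, J.proj_mem L.a3 1 v⟩), Subtype.ext ?_⟩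
      show J.proj L.a 0 v + J.proj L.a 1 v + i • J.proj L.a 1 v = v
      have h2 : J.proj L.a 2 (i • J.proj L.a 1 v) = J.proj L.a 2 v := by
        have hsum := congrArg (fun w => J.proj L.a 2 (i • w)) (J.proj_sum L.a v)
        simp only [show i • v = v from hv, smul_add, J.proj_add] at hsum
        have k0 : i • J.proj L.a 0 v ∈ J.eig L.a 0 := by simpa [hi] using J.i_eig L (J.proj_mem L.a3 0 v)
        have k2 : i • J.proj L.a 2 v ∈ J.eig L.a 1 := by
          have := J.i_eig L (J.proj_mem L.a3 2 v)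
          rw [J.eig_congr L.a (n := 2 * 2) (m := 1) (by norm_num)] at this
          exact hi ▸ this
        rw [J.proj_eig k0, J.proj_eig k2, if_neg (by norm_num), if_neg (by norm_num), zero_add, add_zero] at hsum
        exact hsum
      have k1 : i • J.proj L.a 1 v ∈ J.eig L.a 2 := hi ▸ J.i_eig L (J.proj_mem L.a3 1 v)
      rw [J.proj_eig k1, if_pos rfl] at h2
      rw [h2]
      exact J.proj_sum L.a v
  rw [← hi, ← Nat.card_eq_of_bijective Φ hΦ, Nat.card_prod, J.card_eig L 0 (by norm_num), J.card_eig L 1 (by norm_num)]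
  norm_num

end JMod

end Cfsg.Agent.Lib.J4Type19
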