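import Mathlib

/-!
# The symplectic module of a central extension of M22 by a cyclic group of order six
-/

set_option autoImplicit false

namespace Cfsg.Agent.Lib.J4Type19

/-- The elements of `V` orthogonal to `S`. -/
def perpOf {V : Type*} [AddCommGroup V] (β : V →+ V →+ ZMod 2) (S : AddSubgroup V) : AddSubgroup V where
  carrier := {v | ∀ s ∈ S, β v s = 0}
  zero_mem' := fun s _ => by simp
  add_mem' := fun {u v} hu hv s hs => by simp [hu s hs, hv s hs]
  neg_mem' := fun {v} hv s hs => by simp [hv s hs]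

/-- The setting: `C` is `6.M22`, or a central product of this shape, on a symplectic space of dimension 12. -/
structure JMod (C V M : Type*) [Group C] [AddCommGroup V] [DistribMulAction C V] [Group M] where
  π : C →* M
  surj : Function.Surjective π
  ker_pow : ∀ k, π k = 1 → k ^ 6 = 1
  ker_comm : ∀ k, π k = 1 → ∀ g, Commute k g
  ω : C
  ω3 : ω ^ 3 = 1
  πω : π ω = 1
  ωfix : ∀ v : V, ω • v = v → v = 0
  ker_act : ∀ k, π k = 1 → ∃ j : ℕ, ∀ v : V, k • v = ω ^ j • v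
  ker3 : ∀ k, π k = 1 → k ^ 3 = 1 → ∃ j : ℕ, k = ω ^ j
  nonab : ∀ a b : C, a ^ 3 = 1 → b ^ 3 = 1 → π a ≠ 1 → π b ≠ 1 → π b ≠ π a → π b ≠ (π a)⁻¹ →
    Commute (π a) (π b) → ¬ Commute a b
  two : ∀ v : V, v + v = 0
  β : V →+ V →+ ZMod 2
  alt : ∀ v, β v v = 0
  inv : ∀ (g : C) u v, β (g • u) (g • v) = β u v
  cardV : Nat.card V = 2 ^ 12
  perp : ∀ S : AddSubgroup V, Nat.card S * Nat.card (perpOf β S) = 2 ^ 12

variable {C V M : Type*} [Group C] [AddCommGroup V] [DistribMulAction C V] [Group M]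

namespace JMod

variable (J : JMod C V M)
include J

theorem finiteV : Finite V := Nat.finite_of_card_ne_zero (by rw [J.cardV]; norm_num)

theorem neg_eq (v : V) : -v = v := neg_eq_of_add_eq_zero_right (J.two v)

theorem symm (u v : V) : J.β u v = J.β v u := by
  have h := J.alt (u + v)
  simp only [map_add, AddMonoidHom.add_apply, J.alt, zero_add, add_zero] at h
  have : ∀ p q : ZMod 2, q + p = 0 → p = q := by decide
  exact this _ _ h

theorem ω_comm (g : C) (v : V) : J.ω • g • v = g • J.ω • v := by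
  rw [← mul_smul, ← mul_smul, (J.ker_comm _ J.πω g).eq]

theorem ω3_smul (v : V) : J.ω • J.ω • J.ω • v = v := by
  rw [← mul_smul, ← mul_smul, show J.ω * J.ω * J.ω = J.ω ^ 3 by simp [pow_succ, mul_assoc], J.ω3, one_smul]

theorem ω_sum (v : V) : v + J.ω • v + J.ω • J.ω • v = 0 := by
  refine J.ωfix _ ?_
  rw [smul_add, smul_add, J.ω3_smul]
  abel

theorem card_mod_three (S : AddSubgroup V) (hS : ∀ v ∈ S, J.ω • v ∈ S) : Nat.card S % 3 = 1 := by
  classical
  have := J.finiteV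
  have := Fintype.ofFinite S
  have hf : Fact (Nat.Prime 3) := ⟨Nat.prime_three⟩
  let σ : Equiv.Perm S :=
    { toFun := fun v => ⟨J.ω • (v : V), hS _ v.2⟩
      invFun := fun v => ⟨J.ω • J.ω • (v : V), hS _ (hS _ v.2)⟩
      left_inv := fun v => Subtype.ext (J.ω3_smul _)
      right_inv := fun v => Subtype.ext (J.ω3_smul _) }
  let fσ : Function.End S := ⇑σ
  have hσ : fσ ^ (3 ^ 1) = 1 := by
    funext v
    exact Subtype.ext (J.ω3_smul (v : V))
  have h := Equiv.Perm.card_fixedPoints_modEq hσ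
  have hfix : Fintype.card (Function.fixedPoints fσ) = 1 := by
    rw [Fintype.card_eq_one_iff]
    refine ⟨⟨0, Subtype.ext (smul_zero J.ω)⟩, fun v => Subtype.ext (Subtype.ext ?_)⟩
    exact J.ωfix _ (congrArg Subtype.val v.2)
  rw [hfix] at h
  rw [Nat.card_eq_fintype_card]
  exact h

theorem card_pow (S : AddSubgroup V) (hS : ∀ v ∈ S, J.ω • v ∈ S) : ∃ e ≤ 6, Nat.card S = 4 ^ e := by
  have := J.finiteV
  have h : Nat.card S ∣ 2 ^ 12 := J.cardV ▸ S.card_addSubgroup_dvd_card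
  obtain ⟨d, hd, he⟩ := (Nat.dvd_prime_pow Nat.prime_two).1 h
  have h3 := J.card_mod_three S hS
  rw [he] at h3 ⊢
  obtain ⟨e, rfl | rfl⟩ := Nat.even_or_odd' d
  · exact ⟨e, by omega, by rw [pow_mul]; norm_num⟩
  · exfalso
    rw [pow_succ, pow_mul, Nat.mul_mod, Nat.pow_mod] at h3
    norm_num at h3

/-- A lift of an element of order at most two. -/
theorem exists_two_lift {u : M} (hu : u * u = 1) : ∃ c, J.π c = u ∧ c ^ 4 = 1 := by
  obtain ⟨c, rfl⟩ := J.surj u
  refine ⟨c ^ 3, ?_, ?_⟩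
  · rw [map_pow, pow_succ, pow_two, hu, one_mul]
  · have h := J.ker_pow (c ^ 2) (by rw [map_pow, pow_two, hu])
    rw [← pow_mul] at h ⊢
    exact h

theorem ker_two_smul {k : C} (hk : J.π k = 1) (h4 : k ^ 4 = 1) (v : V) : k • v = v := by
  have hk2 : k ^ 2 = 1 := by
    have h6 := J.ker_pow k hk
    rwa [show (6 : ℕ) = 4 + 2 from rfl, pow_add, h4, one_mul] at h6
  obtain ⟨j, hj⟩ := J.ker_act k hk
  have h : ∀ w : V, J.ω ^ (2 * j) • w = w := fun w => by
    rw [two_mul, pow_add, mul_smul, ← hj, ← hj, ← mul_smul, ← pow_two, hk2, one_smul]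
  have e : J.ω ^ (2 * j) * J.ω ^ (2 * j) = J.ω ^ j := by
    rw [← pow_add, show 2 * j + 2 * j = 3 * j + j by ring, pow_add, pow_mul, J.ω3, one_pow, one_mul]
  rw [hj, ← e, mul_smul, h v, h v]

theorem lift_smul_eq {c c' : C} (h : J.π c = J.π c') (hc : c ^ 4 = 1) (hc' : c' ^ 4 = 1) (v : V) :
    c • v = c' • v := by
  have hk : J.π (c⁻¹ * c') = 1 := by rw [map_mul, map_inv, h, inv_mul_cancel]
  have hcomm : Commute c (c⁻¹ * c') := (J.ker_comm _ hk c).symm
  have h4 : (c⁻¹ * c') ^ 4 = 1 := by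
    have := hcomm.mul_pow 4
    rwa [mul_inv_cancel_left, hc', hc, one_mul, eq_comm] at this
  conv_rhs => rw [← mul_inv_cancel_left c c', mul_smul, J.ker_two_smul hk h4]

theorem lift_sq_smul {c : C} (h : J.π c * J.π c = 1) (hc : c ^ 4 = 1) (v : V) : c • c • v = v := by
  rw [← mul_smul]
  refine J.ker_two_smul (by rw [map_mul, h]) ?_ v
  rw [← pow_two, ← pow_mul, show (2 * 4 : ℕ) = 4 * 2 from rfl, pow_mul, hc, one_pow]

/-- The vectors fixed by a subgroup, acting through lifts of exponent four. -/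
def fix (U : Subgroup M) : AddSubgroup V where
  carrier := {v | ∀ c, J.π c ∈ U → c ^ 4 = 1 → c • v = v}
  zero_mem' := fun c _ _ => smul_zero c
  add_mem' := fun {u v} hu hv c h1 h2 => by rw [smul_add, hu c h1 h2, hv c h1 h2]
  neg_mem' := fun {v} hv c h1 h2 => by rw [smul_neg, hv c h1 h2]

theorem fix_anti {U U' : Subgroup M} (h : U ≤ U') : J.fix U' ≤ J.fix U := fun _ hv c h1 h2 => hv c (h h1) h2

theorem mem_fix_smul {U U' : Subgroup M} {g : C} (h : ∀ x ∈ U', (J.π g)⁻¹ * x * J.π g ∈ U) {v : V}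
    (hv : v ∈ J.fix U) : g • v ∈ J.fix U' := by
  intro c hc hc4
  have hconj : (g⁻¹ * c * g) ^ 4 = 1 := by
    rw [show g⁻¹ * c * g = g⁻¹ * c * g⁻¹⁻¹ by rw [inv_inv], conj_pow, hc4]
    group
  have := hv (g⁻¹ * c * g) (by rw [map_mul, map_mul, map_inv]; exact h _ hc) hconj
  rw [mul_smul, mul_smul] at this
  have h2 := congrArg (fun w => g • w) this
  simpa [smul_inv_smul] using h2

theorem ω_mem_fix {U : Subgroup M} {v : V} (hv : v ∈ J.fix U) : J.ω • v ∈ J.fix U :=
  J.mem_fix_smul (g := J.ω) (fun x hx => by simp [J.πω, hx]) hv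

theorem norm_inv [Finite M] {U : Subgroup M} {g : M} (h : ∀ x ∈ U, g * x * g⁻¹ ∈ U) :
    ∀ x ∈ U, g⁻¹ * x * g ∈ U := by
  intro x hx
  have key : ∀ n : ℕ, g ^ n * x * (g ^ n)⁻¹ ∈ U := by
    intro n
    induction n with
    | zero => simpa using hx
    | succ n ih =>
      have := h _ ih
      rwa [show g ^ (n + 1) * x * (g ^ (n + 1))⁻¹ = g * (g ^ n * x * (g ^ n)⁻¹) * g⁻¹ by rw [pow_succ']; group]
  have e : g ^ (orderOf g - 1) = g⁻¹ := eq_inv_of_mul_eq_one_left (by
    rw [← pow_succ, Nat.sub_add_cancel (orderOf_pos g), pow_orderOf_eq_one])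
  have := key (orderOf g - 1)
  rwa [e, inv_inv] at this

theorem fix_invariant [Finite M] {U : Subgroup M} {g : C} (h : ∀ x ∈ U, J.π g * x * (J.π g)⁻¹ ∈ U) {v : V}
    (hv : v ∈ J.fix U) : g • v ∈ J.fix U :=
  J.mem_fix_smul (J.norm_inv h) hv

end JMod

end Cfsg.Agent.Lib.J4Type19
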