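import Cfsg.Agent.Lib.J4Type19.Setting
import Cfsg.Agent.Lib.J4Type19.Mod
import Cfsg.Agent.Lib.J4Type19.M22Facts
import Cfsg.Agent.Lib.Compute.Mathieu.Outer

/-!
# The centralizer of `P` in the centralizer of `z` is a central extension of M22
-/

set_option autoImplicit false

namespace Cfsg.Agent.Lib.J4Type19

open Cfsg

/-- The Mathieu group. -/
abbrev M22t : Type := ↥Cfsg.Spor.M22

theorem m22_card : Nat.card M22t = 443520 := exists_mFacts.some.card

theorem m22_finite : Finite M22t := Nat.finite_of_card_ne_zero (by rw [m22_card]; norm_num)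

theorem m22_conj_injective : Function.Injective (MulAut.conj : M22t →* MulAut M22t) := by
  obtain ⟨F⟩ := exists_mFacts
  have := F.simple
  rw [← MonoidHom.ker_eq_bot_iff]
  rcases (MulAut.conj : M22t →* MulAut M22t).normal_ker.eq_bot_or_eq_top with h | h
  · exact h
  · exfalso
    have hall : ∀ m x : M22t, m * x * m⁻¹ = x := fun m x => by
      have : (MulAut.conj m : MulAut M22t) = 1 := MonoidHom.mem_ker.1 (h.ge (Subgroup.mem_top m))
      exact (MulEquiv.congr_fun this x : _)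
    exact F.ba (hall F.y F.a)

theorem range_eq_inn (R : Subgroup (MulAut M22t)) (hR : R.index = 2) : R = Inn M22t := by
  obtain ⟨F⟩ := exists_mFacts
  have := F.simple
  have := m22_finite
  have hn : R.Normal := Subgroup.normal_of_index_eq_two hR
  have hle : Inn M22t ≤ R := by
    rcases (hn.comap (MulAut.conj : M22t →* MulAut M22t)).eq_bot_or_eq_top with h | h
    · exfalso
      have : ∀ m : M22t, m = 1 ∨ MulAut.conj m ∉ R := fun m => by
        by_cases hm : MulAut.conj m ∈ R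
        · exact Or.inl (Subgroup.mem_bot.1 (h ▸ (show m ∈ R.comap MulAut.conj from hm)))
        · exact Or.inr hm
      have ha : MulAut.conj F.a ∉ R := (this F.a).resolve_left F.a1
      have ha' : MulAut.conj F.a⁻¹ ∉ R := by rwa [map_inv, inv_mem_iff]
      have hb := (this (F.y * F.a * F.y⁻¹)).resolve_left F.b1
      have : MulAut.conj (F.a⁻¹ * (F.y * F.a * F.y⁻¹)) ∈ R := by
        rw [map_mul, Subgroup.mul_mem_iff_of_index_two hR]
        exact iff_of_false ha' hb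
      exact F.ba (inv_mul_eq_one.1 (Subgroup.mem_bot.1 (h ▸ (show _ ∈ R.comap MulAut.conj from this)))).symm
    · rintro _ ⟨m, rfl⟩
      exact h.ge (Subgroup.mem_top m)
  refine (Subgroup.eq_of_le_of_card_ge hle ?_).symm
  have h1 := R.card_mul_index
  have h2 := (Inn M22t).card_mul_index
  have h3 : (Inn M22t).index = 2 := Compute.Mathieu.card_out_M22
  rw [hR] at h1; rw [h3] at h2
  omega

variable {G : Type*} [Group G] [Finite G]

/-- Everything used about the centralizer of `z`. -/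
structure HData (z : G) (P : Subgroup G) : Type _ where
  ofFields ::
  hJ : IsOfJankoFourTypeWith z P
  p : G
  p3 : p ^ 3 = 1
  pne : p ≠ 1
  mem_P : ∀ x, x ∈ P ↔ x = 1 ∨ x = p ∨ x = p * p
  φ : ↥(cH z) →* MulAut M22t
  φ_eq : ∀ h : ↥(cH z), φ h = 1 ↔ ∃ e ∈ cE z, ∃ q ∈ P, (h : G) = e * q
  t : ↥(cH z)
  tp : (t : G) * p * (t : G)⁻¹ = p⁻¹
  decomp : ∀ h : ↥(cH z), ∃ e ∈ cE z, ∃ c ∈ cC z P, (h : G) = e * c ∨ (h : G) = e * ((t : G) * c)
  π : ↥(cC z P) →* M22t
  πsurj : Function.Surjective π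
  π_eq : ∀ c : ↥(cC z P), MulAut.conj (π c) = φ ⟨(c : G), c.2.1⟩
  φt : φ t ∉ Inn M22t

variable {z : G} {P : Subgroup G}

theorem exists_hData (hJ : IsOfJankoFourTypeWith z P) : Nonempty (HData z P) := by
  classical
  obtain ⟨N, hEN, hNH, -, hNc, ⟨hNn, ⟨iso⟩⟩, hPN⟩ := hJ.2.2.2.2.1
  obtain ⟨φ, hφdef⟩ : ∃ φ, φ = iso.toMonoidHom.comp (QuotientGroup.mk' (N.subgroupOf (cH z))) := ⟨_, rfl⟩
  have hφN : ∀ h : ↥(cH z), φ h = 1 ↔ (h : G) ∈ N := fun h => by
    rw [hφdef]
    exact (map_eq_one_iff iso iso.injective).trans (QuotientGroup.eq_one_iff h)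
  have hφs : Function.Surjective φ := hφdef ▸ iso.surjective.comp (QuotientGroup.mk'_surjective _)
  rw [cardE hJ] at hNc
  have hPc := cardP hJ
  obtain ⟨⟨p, hp⟩, hp1⟩ : ∃ x : ↥P, x ≠ 1 := by
    have : Nontrivial ↥P := Finite.one_lt_card_iff_nontrivial.1 (by rw [hPc]; norm_num)
    exact exists_ne 1
  have hp1' : p ≠ 1 := fun h => hp1 (Subtype.ext h)
  have hp3 : p ^ 3 = 1 := congrArg Subtype.val (hPc ▸ pow_card_eq_one' : (⟨p, hp⟩ : ↥P) ^ 3 = 1)
  have hpp : p * p ≠ 1 := fun h => hp1' (by rwa [pow_succ, pow_two, h, one_mul] at hp3)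
  have hpne : p * p ≠ p := fun h => hp1' (mul_eq_right.1 h)
  have hmemP : ∀ x, x ∈ P ↔ x = 1 ∨ x = p ∨ x = p * p := by
    let s : Finset G := {1, p, p * p}
    have hs : s.card = 3 := Finset.card_eq_three.2 ⟨1, p, p * p, hp1'.symm, hpp.symm, hpne.symm, rfl⟩
    have heq : (s : Set G) = (P : Set G) := by
      refine Set.eq_of_subset_of_ncard_le ?_ ?_ (Set.toFinite _)
      · intro x hx
        simp [s] at hx
        rcases hx with rfl | rfl | rfl
        exacts [one_mem P, hp, mul_mem hp hp]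
      · rw [Set.ncard_coe_finset, hs, ← Nat.card_coe_set_eq]; exact hPc.le
    intro x
    rw [← SetLike.mem_coe, ← heq]
    simp [s]
  have hEP : ∀ x ∈ cE z, x ∈ P → x = 1 := by
    intro x hxE hxP
    have h1 : orderOf x ∣ 2 ^ 13 := by rw [← cardE hJ]; exact Subgroup.orderOf_dvd_natCard _ hxE
    have h2 : orderOf x ∣ 3 := hPc ▸ Subgroup.orderOf_dvd_natCard _ hxP
    have := Nat.dvd_gcd h1 h2
    rw [show Nat.gcd (2 ^ 13) 3 = 1 by norm_num, Nat.dvd_one, orderOf_eq_one_iff] at this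
    exact this
  have hNdec : ∀ x, x ∈ N ↔ ∃ e ∈ cE z, ∃ q ∈ P, x = e * q := by
    let m : ↥(cE z) × ↥P → ↥N := fun q => ⟨(q.1 : G) * q.2, mul_mem (hEN q.1.2) (hPN q.2.2)⟩
    have hinj : Function.Injective m := by
      intro q q' h
      have h' : (q.1 : G) * q.2 = q'.1 * q'.2 := congrArg Subtype.val h
      have e : ((q'.1 : G))⁻¹ * q.1 = q'.2 * (q.2 : G)⁻¹ := by
        rw [inv_mul_eq_iff_eq_mul, ← mul_assoc, eq_mul_inv_iff_mul_eq]; exact h'
      have := hEP _ (mul_mem (inv_mem q'.1.2) q.1.2) (e ▸ mul_mem q'.2.2 (inv_mem q.2.2))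
      have h1 : (q'.1 : G) = q.1 := inv_mul_eq_one.1 this
      rw [this, eq_comm, mul_inv_eq_one] at e
      exact Prod.ext (Subtype.ext h1.symm) (Subtype.ext e.symm)
    have hbij : Function.Bijective m := (Nat.bijective_iff_injective_and_card m).2 ⟨hinj, by
      rw [Nat.card_prod, cardE hJ, hPc, hNc, mul_comm]⟩
    intro x
    constructor
    · intro hx
      obtain ⟨q, hq⟩ := hbij.2 ⟨x, hx⟩
      exact ⟨_, q.1.2, _, q.2.2, (congrArg Subtype.val hq).symm⟩
    · rintro ⟨e, he, q, hq, rfl⟩; exact mul_mem (hEN he) (hPN hq)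
  have hNconj : ∀ h ∈ cH z, ∀ x ∈ N, h * x * h⁻¹ ∈ N := fun h hh x hx => by
    have := hNn.conj_mem ⟨x, hNH hx⟩ hx ⟨h, hh⟩
    exact this
  have hpC : p ∈ cC z P := ⟨hNH (hPN hp), by
    refine Subgroup.mem_centralizer_iff.2 ?_
    intro x hx
    rcases (hmemP x).1 hx with rfl | rfl | rfl <;> simp [mul_assoc]⟩
  have hinC : ∀ h ∈ cH z, h * p * h⁻¹ = p → h ∈ cC z P := fun h hh he => ⟨hh, by
    refine Subgroup.mem_centralizer_iff.2 ?_
    have hc : p * h = h * p := by rw [mul_inv_eq_iff_eq_mul] at he; exact he.symm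
    intro x hx
    rcases (hmemP x).1 hx with rfl | rfl | rfl
    · simp
    · exact hc
    · rw [mul_assoc, hc, ← mul_assoc, hc, mul_assoc]⟩
  have hpinv : p⁻¹ = p * p := inv_eq_of_mul_eq_one_right (by rw [← mul_assoc, ← hp3]; simp [pow_succ])
  have hnorm : ∀ h : G, h * p * h⁻¹ ∈ P → h * p * h⁻¹ = p ∨ h * p * h⁻¹ = p⁻¹ := by
    intro h hm
    rcases (hmemP _).1 hm with e | e | e
    · exact absurd (conj_eq_one_iff.1 e) hp1'
    · exact Or.inl e
    · exact Or.inr (e.trans hpinv.symm)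
  obtain ⟨t, ht, htp⟩ : ∃ t ∈ cH z, t * p * t⁻¹ = p⁻¹ := by
    by_contra hno
    push Not at hno
    refine hJ.2.2.2.2.2.2.2.1 (le_antisymm (fun x hx => ?_) (fun x hx => ⟨hx.1, ?_⟩))
    · have hm : x * p * x⁻¹ ∈ P := (Subgroup.mem_normalizer_iff.1 hx.2 p).1 hp
      exact hinC x hx.1 ((hnorm x hm).resolve_right (hno x hx.1))
    · exact (Subgroup.centralizer_le_normalizer (s := (P : Set G))) hx.2
  have hfrat : ∀ h ∈ cH z, ∃ e ∈ cE z, (e⁻¹ * h) * p * (e⁻¹ * h)⁻¹ ∈ P := by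
    intro h hh
    have : Fact (Nat.Prime 3) := ⟨Nat.prime_three⟩
    have hf : (Nat.card ↥N).factorization 3 = 1 := by
      rw [hNc, Nat.factorization_mul (by norm_num) (by norm_num), Nat.Prime.factorization_pow Nat.prime_two,
        Nat.Prime.factorization Nat.prime_three]
      simp
    let S1 : Sylow 3 ↥N := Sylow.ofCard (P.subgroupOf N) (by
      rw [Nat.card_congr (Subgroup.subgroupOfEquivOfLe hPN).toEquiv, hPc, hf]; norm_num)
    have hP2 : P.map (MulAut.conj h).toMonoidHom ≤ N := by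
      rintro _ ⟨x, hx, rfl⟩
      exact hNconj h hh x (hPN hx)
    let S2 : Sylow 3 ↥N := Sylow.ofCard ((P.map (MulAut.conj h).toMonoidHom).subgroupOf N) (by
      rw [Nat.card_congr (Subgroup.subgroupOfEquivOfLe hP2).toEquiv,
        ← Nat.card_congr (Subgroup.equivMapOfInjective P _ (MulAut.conj h).injective).toEquiv, hPc, hf]
      norm_num)
    obtain ⟨⟨n, hn⟩, hn'⟩ := MulAction.exists_smul_eq ↥N S1 S2
    have hmem : (⟨h * p * h⁻¹, hNconj h hh p (hPN hp)⟩ : ↥N) ∈ (S2 : Subgroup ↥N) := ⟨p, hp, rfl⟩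
    rw [← hn', Sylow.coe_subgroup_smul] at hmem
    obtain ⟨⟨x, hxN⟩, hxP, hx⟩ := hmem
    have hx' : n * x * n⁻¹ = h * p * h⁻¹ := congrArg Subtype.val hx
    obtain ⟨e, he, q, hq, rfl⟩ := (hNdec n).1 hn
    refine ⟨e, he, ?_⟩
    have : e⁻¹ * h * p * (e⁻¹ * h)⁻¹ = q * x * q⁻¹ := by
      rw [show e⁻¹ * h * p * (e⁻¹ * h)⁻¹ = e⁻¹ * (h * p * h⁻¹) * e by group, ← hx']
      group
    rw [this]
    exact mul_mem (mul_mem hq hxP) (inv_mem hq)
  have hdec : ∀ h ∈ cH z, ∃ e ∈ cE z, ∃ c ∈ cC z P, h = e * c ∨ h = e * (t * c) := by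
    intro h hh
    obtain ⟨e, he, hm⟩ := hfrat h hh
    have heh : e⁻¹ * h ∈ cH z := mul_mem (inv_mem (cE_le z he)) hh
    rcases hnorm _ hm with e1 | e1
    · exact ⟨e, he, _, hinC _ heh e1, Or.inl (by group)⟩
    · refine ⟨e, he, t⁻¹ * (e⁻¹ * h), hinC _ (mul_mem (inv_mem ht) heh) ?_, Or.inr (by group)⟩
      calc t⁻¹ * (e⁻¹ * h) * p * (t⁻¹ * (e⁻¹ * h))⁻¹
          = t⁻¹ * ((e⁻¹ * h) * p * (e⁻¹ * h)⁻¹) * t := by group
        _ = t⁻¹ * (t * p * t⁻¹) * t := by rw [e1, htp]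
        _ = p := by group
  obtain ⟨f, hf⟩ : ∃ f : ↥(cC z P) →* MulAut M22t,
      f = φ.comp (Subgroup.inclusion (inf_le_left : cC z P ≤ cH z)) := ⟨_, rfl⟩
  have hfc : ∀ c : ↥(cC z P), f c = φ ⟨(c : G), c.2.1⟩ := fun c => by rw [hf]; rfl
  have hφE : ∀ e (he : e ∈ cE z), φ ⟨e, cE_le z he⟩ = 1 := fun e he => (hφN _).2 (hEN he)
  have hφt : φ ⟨t, ht⟩ ∉ f.range := by
    rintro ⟨⟨c, hc⟩, he⟩
    rw [hfc] at he
    have h0 : φ (⟨c, hc.1⟩⁻¹ * ⟨t, ht⟩) = 1 := by rw [map_mul, map_inv, he, inv_mul_cancel]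
    obtain ⟨e, heE, q, hq, heq⟩ := (hNdec _).1 ((hφN _).1 h0)
    have heq' : c⁻¹ * t = e * q := heq
    have hce : c * p * c⁻¹ = p := by
      rw [← Subgroup.mem_centralizer_iff.1 hc.2 p hp]; group
    have hqp : q * p * q⁻¹ = p := by
      rcases (hmemP q).1 hq with rfl | rfl | rfl <;> simp [mul_assoc]
    have key : c * (e * p * e⁻¹) * c⁻¹ = p⁻¹ := by
      rw [← htp, show t = c * (e * q) by rw [← heq']; group]
      conv_lhs => rw [← hqp]
      group
    have hcinv : c⁻¹ * p⁻¹ * c = p⁻¹ := by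
      conv_lhs => rw [← hce]
      group
    have hep : e * p * e⁻¹ = p⁻¹ := by
      rw [← hcinv, ← key]; group
    have h1 : e * p * e⁻¹ * p⁻¹ ∈ cE z := by
      rw [show e * p * e⁻¹ * p⁻¹ = e * (p * e⁻¹ * p⁻¹) by group]
      exact mul_mem heE (cE_conj hpC.1 (inv_mem heE))
    rw [hep] at h1
    have h2 := hEP _ h1 (mul_mem (inv_mem hp) (inv_mem hp))
    rw [← mul_inv_rev, inv_eq_one] at h2
    exact hpp h2
  have hidx : f.range.index = 2 := by
    rw [Subgroup.index_eq_two_iff']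
    refine ⟨(φ ⟨t, ht⟩)⁻¹, fun b => ?_⟩
    by_cases hb : b ∈ f.range
    · refine Or.inr ⟨hb, fun hm => hφt ?_⟩
      have := (Subgroup.mul_mem_cancel_right _ hb).1 hm
      rwa [inv_mem_iff] at this
    · refine Or.inl ⟨?_, hb⟩
      obtain ⟨⟨h, hh⟩, rfl⟩ := hφs b
      obtain ⟨e, he, c, hc, he'⟩ := hdec h hh
      rcases he' with rfl | rfl
      · exfalso
        refine hb ⟨⟨c, hc⟩, ?_⟩
        rw [hfc, show (⟨e * c, hh⟩ : ↥(cH z)) = ⟨e, cE_le z he⟩ * ⟨c, hc.1⟩ from rfl, map_mul, hφE e he, one_mul]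
      · refine ⟨⟨c, hc⟩, ?_⟩
        rw [hfc, show (⟨e * (t * c), hh⟩ : ↥(cH z)) = ⟨e, cE_le z he⟩ * (⟨t, ht⟩ * ⟨c, hc.1⟩) from rfl, map_mul,
          map_mul, hφE e he, one_mul, inv_mul_cancel_left]
  have hR := range_eq_inn f.range hidx
  have hmem : ∀ c, ∃ m : M22t, MulAut.conj m = f c := fun c => hR.le ⟨c, rfl⟩
  choose π hπ using hmem
  refine ⟨{ hJ := hJ, p := p, p3 := hp3, pne := hp1', mem_P := hmemP, φ := φ
            φ_eq := fun h => (hφN h).trans (hNdec _)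
            t := ⟨t, ht⟩, tp := htp, decomp := fun h => hdec h h.2
            π := MonoidHom.mk' π fun c c' => m22_conj_injective (by rw [map_mul, hπ, hπ, hπ, map_mul])
            πsurj := fun m => ?_
            π_eq := fun c => (hπ c).trans (hfc c)
            φt := fun h => hφt (hR.ge h) }⟩
  obtain ⟨c, hc⟩ := hR.ge ⟨m, rfl⟩
  exact ⟨c, m22_conj_injective ((hπ c).trans hc)⟩

namespace HData

variable (D : HData z P)
include D

theorem p_mem : D.p ∈ P := (D.mem_P _).2 (Or.inr (Or.inl rfl))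

theorem pH : D.p ∈ cH z := by
  have h := D.hJ.2.2.2.2.1
  obtain ⟨N, -, hNH, -, -, -, hPN⟩ := h
  exact hNH (hPN D.p_mem)

theorem p_mem_C : D.p ∈ cC z P := ⟨D.pH, by
  refine Subgroup.mem_centralizer_iff.2 ?_
  intro x hx
  rcases (D.mem_P x).1 hx with rfl | rfl | rfl <;> simp [mul_assoc]⟩

/-- The element of order three as an element of the centralizer. -/
def pC : ↥(cC z P) := ⟨D.p, D.p_mem_C⟩

theorem comm_p (c : ↥(cC z P)) : D.p * (c : G) = (c : G) * D.p :=
  Subgroup.mem_centralizer_iff.1 c.2.2 _ D.p_mem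

theorem z_mem_C : z ∈ cC z P :=
  ⟨cE_le z (z_mem D.hJ), ((centE D.hJ).ge (Subgroup.mem_zpowers z)).2⟩

theorem comm_z (c : ↥(cC z P)) : z * (c : G) = (c : G) * z :=
  (Subgroup.mem_centralizer_singleton_iff.1 c.2.1).symm

theorem ker_iff (c : ↥(cC z P)) :
    D.π c = 1 ↔ ∃ j : ℕ, (c : G) = D.p ^ j ∨ (c : G) = z * D.p ^ j := by
  constructor
  · intro h
    have h1 : D.φ ⟨(c : G), c.2.1⟩ = 1 := by rw [← D.π_eq, h, map_one]
    obtain ⟨e, he, q, hq, heq⟩ := (D.φ_eq _).1 h1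
    have heq' : (c : G) = e * q := heq
    obtain ⟨j, rfl⟩ : ∃ j : ℕ, q = D.p ^ j := by
      rcases (D.mem_P q).1 hq with rfl | rfl | rfl
      exacts [⟨0, by simp⟩, ⟨1, by simp⟩, ⟨2, by rw [pow_two]⟩]
    have hec : e ∈ Subgroup.centralizer (P : Set G) := by
      rw [show e = (c : G) * (D.p ^ j)⁻¹ by rw [heq']; group]
      exact mul_mem c.2.2 (inv_mem (pow_mem D.p_mem_C.2 j))
    rcases mem_zpowers_z D.hJ ((centE D.hJ).le ⟨he, hec⟩) with rfl | rfl
    · exact ⟨j, Or.inl (by rw [heq', one_mul])⟩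
    · exact ⟨j, Or.inr heq'⟩
  · rintro ⟨j, h | h⟩ <;>
      (apply m22_conj_injective; rw [map_one, D.π_eq, D.φ_eq])
    · exact ⟨1, one_mem _, D.p ^ j, pow_mem D.p_mem j, by rw [one_mul]; exact h⟩
    · exact ⟨z, z_mem D.hJ, D.p ^ j, pow_mem D.p_mem j, h⟩

theorem card_C : Nat.card ↥(cC z P) = 6 * 443520 := by
  classical
  let zC : ↥(cC z P) := ⟨z, D.z_mem_C⟩
  have hk : Nat.card ↥D.π.ker = 6 := by
    let g : Fin 2 × Fin 3 → ↥D.π.ker := fun q =>
      ⟨zC ^ (q.1 : ℕ) * D.pC ^ (q.2 : ℕ), MonoidHom.mem_ker.2 ((D.ker_iff _).2 ⟨q.2, by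
        rcases q with ⟨i, j⟩
        fin_cases i
        · left; simp [zC, pC]
        · right; simp [zC, pC]⟩)⟩
    have hz3 : ∀ j : ℕ, z ≠ D.p ^ j := fun j h => by
      have h3 : z ^ 3 = 1 := by rw [h, ← pow_mul, mul_comm, pow_mul, D.p3, one_pow]
      rw [pow_succ, pow_two, z_sq D.hJ, one_mul] at h3
      exact z_ne D.hJ h3
    have hb : Function.Bijective g := by
      constructor
      · rintro ⟨i, j⟩ ⟨i', j'⟩ h
        have h' : z ^ (i : ℕ) * D.p ^ (j : ℕ) = z ^ (i' : ℕ) * D.p ^ (j' : ℕ) :=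
          congrArg (fun x : ↥D.π.ker => ((x : ↥(cC z P)) : G)) h
        have hij : i = i' := by
          fin_cases i <;> fin_cases i' <;> simp at h' ⊢
          · exact hz3 ((j : ℕ) + 2 * (j' : ℕ)) (by
              rw [pow_add, h', mul_assoc, ← pow_add, show (j' : ℕ) + 2 * (j' : ℕ) = 3 * (j' : ℕ) by ring,
                pow_mul, D.p3, one_pow, mul_one])
          · exact hz3 ((j' : ℕ) + 2 * (j : ℕ)) (by
              rw [pow_add, ← h', mul_assoc, ← pow_add, show (j : ℕ) + 2 * (j : ℕ) = 3 * (j : ℕ) by ring,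
                pow_mul, D.p3, one_pow, mul_one])
        subst hij
        have hp : orderOf D.p = 3 := orderOf_eq_prime (hp := ⟨Nat.prime_three⟩) D.p3 D.pne
        have := mul_left_cancel h'
        rw [pow_eq_pow_iff_modEq, hp] at this
        exact Prod.ext rfl (Fin.ext (Nat.ModEq.eq_of_lt_of_lt this j.2 j'.2))
      · rintro ⟨c, hc⟩
        obtain ⟨j, h⟩ := (D.ker_iff c).1 (MonoidHom.mem_ker.1 hc)
        have hj : D.p ^ (j % 3) = D.p ^ j := by
          conv_rhs => rw [← Nat.mod_add_div j 3, pow_add, pow_mul, D.p3, one_pow, mul_one]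
        rcases h with h | h
        · refine ⟨(0, ⟨j % 3, Nat.mod_lt _ (by norm_num)⟩), Subtype.ext (Subtype.ext ?_)⟩
          simp [g, zC, pC, h, hj]
        · refine ⟨(1, ⟨j % 3, Nat.mod_lt _ (by norm_num)⟩), Subtype.ext (Subtype.ext ?_)⟩
          simp [g, zC, pC, h, hj]
    rw [← Nat.card_eq_of_bijective g hb, Nat.card_prod, Nat.card_fin, Nat.card_fin]
  have := D.π.ker.card_mul_index
  rw [Subgroup.index_ker, MonoidHom.range_eq_top.2 D.πsurj, Subgroup.card_top, hk, m22_card] at this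
  exact this.symm

theorem nonab (a b : ↥(cC z P)) (ha : a ^ 3 = 1) (hb : b ^ 3 = 1) (ha1 : D.π a ≠ 1) (hb1 : D.π b ≠ 1)
    (hba : D.π b ≠ D.π a) (hba' : D.π b ≠ (D.π a)⁻¹) : ¬ Commute a b := by
  classical
  intro hab
  obtain ⟨A, hA⟩ : ∃ A, A = Subgroup.closure ({a, b, D.pC} : Set ↥(cC z P)) := ⟨_, rfl⟩
  have hpc : ∀ c : ↥(cC z P), Commute D.pC c := fun c => Subtype.ext (D.comm_p c)
  have hp3 : D.pC ^ 3 = 1 := Subtype.ext D.p3
  have hgen : ∀ x ∈ ({a, b, D.pC} : Set ↥(cC z P)), ∀ y ∈ ({a, b, D.pC} : Set ↥(cC z P)), Commute x y := by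
    rintro x (rfl | rfl | rfl) y (rfl | rfl | rfl)
    exacts [Commute.refl _, hab, (hpc _).symm, hab.symm, Commute.refl _, (hpc _).symm, hpc _, hpc _, Commute.refl _]
  have : IsMulCommutative ↥A := hA ▸ Subgroup.isMulCommutative_closure (fun x hx y hy => hgen x hx y hy)
  have hexp : ∀ x ∈ A, x ^ 3 = 1 := by
    intro x hx
    rw [hA] at hx
    induction hx using Subgroup.closure_induction with
    | mem y hy => rcases hy with rfl | rfl | rfl <;> assumption
    | one => exact one_pow 3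
    | mul u v hu hv ihu ihv =>
      have hc : Commute u v := by
        have h := this.is_comm.comm (⟨u, hA ▸ hu⟩ : ↥A) ⟨v, hA ▸ hv⟩
        exact congrArg Subtype.val h
      rw [hc.mul_pow, ihu, ihv, mul_one]
    | inv u _ ihu => rw [inv_pow, ihu, inv_one]
  have hf3 : Fact (Nat.Prime 3) := ⟨Nat.prime_three⟩
  have hpg : IsPGroup 3 ↥A := fun x => ⟨1, Subtype.ext (by simpa using hexp x x.2)⟩
  obtain ⟨k, hk⟩ := IsPGroup.iff_card.1 hpg
  have hsub : A.map D.π ≠ ⊥ := fun h => ha1 (Subgroup.mem_bot.1 (h ▸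
    ⟨a, hA ▸ Subgroup.subset_closure (by simp), rfl⟩))
  obtain ⟨l, hl⟩ := IsPGroup.iff_card.1 (hpg.map D.π)
  have hbig : 4 ≤ Nat.card ↥(A.map D.π) := by
    have hma : ∀ x ∈ ({a, b} : Set ↥(cC z P)), D.π x ∈ A.map D.π := fun x hx =>
      ⟨x, hA ▸ Subgroup.subset_closure (by rcases hx with rfl | rfl <;> simp), rfl⟩
    let s : Finset M22t := {1, D.π a, (D.π a)⁻¹, D.π b}
    have hainv : (D.π a)⁻¹ ≠ D.π a := fun h => by
      apply ha1
      have h3 : D.π a ^ 3 = 1 := by rw [← map_pow, ha, map_one]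
      rw [pow_succ, pow_two] at h3
      conv_lhs at h3 => arg 1; arg 1; rw [← h]
      rwa [inv_mul_cancel, one_mul] at h3
    have hs : s.card = 4 := by
      simp only [s]
      rw [Finset.card_insert_of_notMem, Finset.card_insert_of_notMem, Finset.card_insert_of_notMem,
        Finset.card_singleton]
      · simp [hba'.symm]
      · simp [hainv.symm, hba.symm]
      · simp [ha1.symm, hb1.symm, eq_comm (a := (1 : M22t)), ha1]
    show 4 ≤ Nat.card ↥(A.map D.π : Set M22t)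
    rw [Nat.card_coe_set_eq, ← hs, ← Set.ncard_coe_finset]
    refine Set.ncard_le_ncard ?_ (Set.toFinite _)
    intro x hx
    simp [s] at hx
    rcases hx with rfl | rfl | rfl | rfl
    exacts [one_mem _, hma a (by simp), inv_mem (hma a (by simp)), hma b (by simp)]
  have hl2 : 2 ≤ l := by
    by_contra hlt
    have := Nat.pow_le_pow_right (show 0 < 3 by norm_num) (show l ≤ 1 by omega)
    omega
  have hker : (D.π.comp A.subtype).ker ≠ ⊥ := fun h => by
    have := Subgroup.mem_bot.1 (h ▸ (show (⟨D.pC, hA ▸ Subgroup.subset_closure (by simp)⟩ : ↥A) ∈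
      (D.π.comp A.subtype).ker from (D.ker_iff D.pC).2 ⟨1, Or.inl (pow_one _).symm⟩))
    exact D.pne (congrArg (fun x : ↥A => ((x : ↥(cC z P)) : G)) this)
  have hk3 : 3 ≤ k := by
    have h := (D.π.comp A.subtype).ker.card_mul_index
    rw [Subgroup.index_ker, MonoidHom.range_comp, Subgroup.range_subtype, hl, hk] at h
    obtain ⟨m, hm⟩ := IsPGroup.iff_card.1 (hpg.to_subgroup (D.π.comp A.subtype).ker)
    rw [hm, ← pow_add] at h
    have := Nat.pow_right_injective (by norm_num : 2 ≤ 3) h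
    rcases m with _ | m
    · exact absurd (Subgroup.eq_bot_of_card_eq _ (by simpa using hm)) hker
    · omega
  have hidx : 3 ^ k * A.index = 6 * 443520 := by rw [← hk, A.card_mul_index, D.card_C]
  have hcop : ¬ 3 ∣ A.index := fun ⟨r, hr⟩ => by
    have h81 : 3 ^ 4 ∣ 6 * 443520 :=
      hidx ▸ hr ▸ ⟨3 ^ (k - 3) * r, by
        rw [show k = 3 + (k - 3) by omega]; simp [pow_add]; ring⟩
    norm_num at h81
  open scoped IsMulCommutative in
  let τ : ↥(cC z P) →* ↥A := MonoidHom.transfer (MonoidHom.id ↥A)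
  have hτ : D.pC ^ A.index = 1 := by
    have hpmem : D.pC ∈ ⁅(⊤ : Subgroup ↥(cC z P)), (⊤ : Subgroup ↥(cC z P))⁆ := by
      have h : (⁅(⊤ : Subgroup ↥(cC z P)), (⊤ : Subgroup ↥(cC z P))⁆).map (cC z P).subtype = ⁅cC z P, cC z P⁆ := by
        rw [Subgroup.map_commutator, ← MonoidHom.range_eq_map, Subgroup.range_subtype]
      obtain ⟨x, hx, hxp⟩ := h.ge (D.hJ.2.2.2.2.2.2.2.2 D.p_mem)
      exact (Subtype.ext hxp : x = D.pC) ▸ hx
    have h1 : τ D.pC = 1 := by
      open scoped IsMulCommutative in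
      exact MonoidHom.mem_ker.1 (Abelianization.commutator_subset_ker τ hpmem)
    have h2 := MonoidHom.transfer_eq_pow (MonoidHom.id ↥A) D.pC fun n g _ => by
      rw [mul_assoc, ((hpc g).pow_left n).eq, inv_mul_cancel_left]
    exact congrArg Subtype.val (h2.symm.trans h1)
  have hone : D.pC = 1 := by
    have h1 : orderOf D.pC ∣ A.index := orderOf_dvd_of_pow_eq_one hτ
    have h2 : orderOf D.pC ∣ 3 := orderOf_dvd_of_pow_eq_one hp3
    rcases (Nat.dvd_prime Nat.prime_three).1 h2 with h | h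
    · exact orderOf_eq_one_iff.1 h
    · exact absurd (h ▸ h1) hcop
  exact D.pne (congrArg Subtype.val hone)

/-- The module. -/
noncomputable def toJMod : JMod ↥(cC z P) (cV z) M22t where
  π := D.π
  surj := D.πsurj
  ker_pow k hk := by
    obtain ⟨j, h⟩ := (D.ker_iff k).1 hk
    apply Subtype.ext
    rw [SubgroupClass.coe_pow, OneMemClass.coe_one]
    have e : (D.p ^ j) ^ 6 = 1 := by
      rw [← pow_mul, show j * 6 = 3 * (2 * j) by ring, pow_mul, D.p3, one_pow]
    rcases h with h | h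
    · rw [h, e]
    · rw [h, (show Commute z (D.p ^ j) from Commute.pow_right (D.comm_z D.pC) j).mul_pow, e, mul_one,
        show (6 : ℕ) = 2 * 3 from rfl, pow_mul, pow_two, z_sq D.hJ, one_pow]
  ker_comm k hk g := by
    obtain ⟨j, h⟩ := (D.ker_iff k).1 hk
    apply Subtype.ext
    show (k : G) * g = g * k
    have hp : Commute (D.p ^ j) (g : G) := (show Commute D.p (g : G) from D.comm_p g).pow_left j
    rcases h with h | h
    · rw [h]; exact hp.eq
    · rw [h]; exact ((show Commute z (g : G) from D.comm_z g).mul_left hp).eq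
  ω := D.pC
  ω3 := Subtype.ext D.p3
  πω := (D.ker_iff _).2 ⟨1, Or.inl (pow_one _).symm⟩
  ωfix v hv := by
    obtain ⟨e, rfl⟩ := mk_surjective v
    rw [smul_mk, mk_eq D.hJ] at hv
    rw [mk_eq_zero D.hJ]
    refine mem_zpowers_z D.hJ ((centE D.hJ).le ⟨e.2, ?_⟩)
    refine Subgroup.mem_centralizer_iff.2 ?_
    intro x hx
    have hpe : D.p * (e : G) = (e : G) * D.p := by
      have hv' : (e : G) = D.p * e * D.p⁻¹ ∨ (e : G) = D.p * e * D.p⁻¹ * z := hv
      rcases hv' with h | h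
      · conv_rhs => rw [h]
        group
      · exfalso
        apply z_ne D.hJ
        have hzc : Commute z D.p := D.comm_z D.pC
        have h' : D.p * (e : G) * D.p⁻¹ = e * z := by
          conv_rhs => rw [h, mul_assoc, z_sq D.hJ, mul_one]
        have hzz : D.p * z * D.p⁻¹ = z := by rw [← hzc.eq, mul_inv_cancel_right]
        have h2 : D.p * D.p * (e : G) * (D.p * D.p)⁻¹ = e := by
          rw [show D.p * D.p * (e : G) * (D.p * D.p)⁻¹ = D.p * (D.p * e * D.p⁻¹) * D.p⁻¹ by group, h',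
            show D.p * ((e : G) * z) * D.p⁻¹ = D.p * e * D.p⁻¹ * (D.p * z * D.p⁻¹) by group, h', hzz,
            mul_assoc, z_sq D.hJ, mul_one]
        have h3 : D.p ^ 3 * (e : G) * (D.p ^ 3)⁻¹ = e * z := by
          rw [show D.p ^ 3 = D.p * D.p * D.p by simp [pow_succ],
            show D.p * D.p * D.p * (e : G) * (D.p * D.p * D.p)⁻¹ = D.p * (D.p * D.p * e * (D.p * D.p)⁻¹) * D.p⁻¹ by group, h2, h']
        rw [D.p3, one_mul, inv_one, mul_one, left_eq_mul] at h3
        exact h3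
    rcases (D.mem_P x).1 hx with rfl | rfl | rfl
    · simp
    · exact hpe
    · rw [mul_assoc, hpe, ← mul_assoc, hpe, mul_assoc]
  ker_act k hk := by
    obtain ⟨j, h⟩ := (D.ker_iff k).1 hk
    refine ⟨j, fun v => ?_⟩
    obtain ⟨e, rfl⟩ := mk_surjective v
    rw [smul_mk, smul_mk]
    congr 1
    apply Subtype.ext
    show (k : G) * e * (k : G)⁻¹ = ((D.pC ^ j : ↥(cC z P)) : G) * e * ((D.pC ^ j : ↥(cC z P)) : G)⁻¹
    rcases h with h | h
    · rw [h]; rfl
    · have hcz : ∀ x ∈ cE z, z * x * z⁻¹ = x := fun x hx => by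
        rw [← Subgroup.mem_centralizer_singleton_iff.1 (cE_le z hx), mul_inv_cancel_right]
      rw [h, show z * D.p ^ j * (e : G) * (z * D.p ^ j)⁻¹ = z * (D.p ^ j * e * (D.p ^ j)⁻¹) * z⁻¹ by group,
        hcz _ (cE_conj (pow_mem D.pH j) e.2)]
      rfl
  ker3 k hk h3 := by
    obtain ⟨j, h | h⟩ := (D.ker_iff k).1 hk
    · exact ⟨j, Subtype.ext h⟩
    · exfalso
      have h' : (k : G) ^ 3 = 1 := congrArg Subtype.val h3
      rw [h, (show Commute z (D.p ^ j) from Commute.pow_right (D.comm_z D.pC) j).mul_pow, ← pow_mul, mul_comm j,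
        pow_mul, D.p3, one_pow, mul_one, pow_succ, pow_two, z_sq D.hJ, one_mul] at h'
      exact z_ne D.hJ h'
  nonab a b ha hb h1 h2 h3 h4 _ := D.nonab a b ha hb h1 h2 h3 h4
  two := cV_two D.hJ
  β := form D.hJ
  alt := form_alt D.hJ
  inv g u v := form_inv D.hJ g u v
  cardV := cardV D.hJ
  perp S := perp_card D.hJ S _ fun _ => Iff.rfl

end HData

end Cfsg.Agent.Lib.J4Type19
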