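import Cfsg.Agent.Lib.J4Type19.Mod
import Cfsg.Agent.Lib.J4Type19.M22Facts

/-!
# The eigenspaces of an element of order three, and the fixed points of an involution
-/

set_option autoImplicit false

namespace Cfsg.Agent.Lib.J4Type19

variable {C V M : Type*} [Group C] [AddCommGroup V] [DistribMulAction C V] [Group M]

/-- Lifts of the elements `a`, `y` with `y * y` inverting `a`. -/
structure Lifts (J : JMod C V M) (F : MFacts M) where
  a : C
  y : C
  πa : J.π a = F.a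
  πy : J.π y = F.y
  a3 : a ^ 3 = 1
  y8 : y ^ 8 = 1
  inv : y * y * a * (y * y)⁻¹ = a⁻¹
  e : ℕ
  e_ne : e % 3 ≠ 0
  comm : a * (y * a * y⁻¹) = J.ω ^ e * (y * a * y⁻¹ * a)

namespace JMod

variable (J : JMod C V M) (F : MFacts M)
include J

theorem exists_lifts : Nonempty (Lifts J F) := by
  obtain ⟨a₀, ha₀⟩ := J.surj F.a
  obtain ⟨y₀, hy₀⟩ := J.surj F.y
  obtain ⟨y, hy_def⟩ : ∃ y, y = y₀ ^ 9 := ⟨_, rfl⟩
  have hy : J.π y = F.y := by
    rw [hy_def, map_pow, hy₀, show (9 : ℕ) = 4 + 4 + 1 from rfl, pow_succ, pow_add, F.y4, one_mul, one_mul]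
  have hy8 : y ^ 8 = 1 := by
    have h := J.ker_pow (y₀ ^ 4) (by rw [map_pow, hy₀, F.y4])
    rw [← pow_mul] at h
    rw [hy_def, ← pow_mul, show 9 * 8 = 4 * 6 * 3 from rfl, pow_mul, h, one_pow]
  obtain ⟨a', ha'_def⟩ : ∃ a', a' = a₀ ^ 4 := ⟨_, rfl⟩
  have ha' : J.π a' = F.a := by
    rw [ha'_def, map_pow, ha₀, show (4 : ℕ) = 3 + 1 from rfl, pow_succ, F.a3, one_mul]
  have hinvM : F.y * F.y * F.a * (F.y * F.y)⁻¹ = F.a⁻¹ := by
    rw [← F.yb]; group
  obtain ⟨m, hm⟩ : ∃ m, m = y * y * a' * (y * y)⁻¹ * a' := ⟨_, rfl⟩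
  have hmk : J.π m = 1 := by
    rw [hm]; simp only [map_mul, map_inv, hy, ha']
    rw [hinvM, inv_mul_cancel]
  have hk3 : J.π (a' ^ 3) = 1 := by rw [map_pow, ha', F.a3]
  have hm3 : m ^ 3 = a' ^ 3 * a' ^ 3 := by
    have e1 : y * y * a' * (y * y)⁻¹ = m * a'⁻¹ := by rw [hm]; group
    have e2 : a' ^ 3 = (y * y * a' * (y * y)⁻¹) ^ 3 := by
      rw [conj_pow, ← (J.ker_comm _ hk3 (y * y)).eq, mul_inv_cancel_right]
    conv_rhs => arg 1; rw [e2, e1, (J.ker_comm _ hmk a'⁻¹).mul_pow, inv_pow]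
    rw [mul_assoc, inv_mul_cancel, mul_one]
  have ha3 : a' ^ 3 = 1 := by
    have h6 := J.ker_pow m hmk
    rw [show (6 : ℕ) = 3 * 2 from rfl, pow_mul, hm3] at h6
    have h4 : a' ^ 12 = 1 := by rw [← h6]; simp only [← pow_add, ← pow_mul]
    have h6' : (a₀ ^ 3) ^ 6 = 1 := J.ker_pow _ (by rw [map_pow, ha₀, F.a3])
    have h18 : a₀ ^ 18 = 1 := by rw [← h6', ← pow_mul]
    have h48 : a₀ ^ 48 = 1 := by rw [← h4, ha'_def, ← pow_mul]
    have h6'' : a₀ ^ 6 = 1 := by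
      have h36 : a₀ ^ 36 = 1 := by rw [show (36 : ℕ) = 18 * 2 from rfl, pow_mul, h18, one_pow]
      have h12 : a₀ ^ 12 = 1 := by
        rwa [show (48 : ℕ) = 36 + 12 from rfl, pow_add, h36, one_mul] at h48
      rwa [show (18 : ℕ) = 12 + 6 from rfl, pow_add, h12, one_mul] at h18
    rw [ha'_def, ← pow_mul, show 4 * 3 = 6 * 2 from rfl, pow_mul, h6'', one_pow]
  rw [ha3, one_mul] at hm3
  obtain ⟨j, hj⟩ := J.ker3 m hmk hm3
  have hω : ∀ n, ∀ g : C, Commute (J.ω ^ n) g := fun n g => (J.ker_comm _ J.πω g).pow_left n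
  obtain ⟨a, ha_def⟩ : ∃ a, a = a' * J.ω ^ j := ⟨_, rfl⟩
  have ha : J.π a = F.a := by rw [ha_def, map_mul, map_pow, J.πω, one_pow, mul_one, ha']
  have ha3' : a ^ 3 = 1 := by
    rw [ha_def, (hω j a').symm.mul_pow, ha3, one_mul, ← pow_mul, mul_comm, pow_mul, J.ω3, one_pow]
  have hinv : y * y * a * (y * y)⁻¹ = a⁻¹ := by
    refine eq_inv_of_mul_eq_one_left ?_
    calc y * y * a * (y * y)⁻¹ * a = (y * y * a' * (y * y)⁻¹ * a') * (J.ω ^ j * J.ω ^ j) := by
          rw [ha_def]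
          calc y * y * (a' * J.ω ^ j) * (y * y)⁻¹ * (a' * J.ω ^ j)
              = y * y * a' * ((J.ω ^ j) * ((y * y)⁻¹ * a')) * J.ω ^ j := by group
            _ = y * y * a' * (((y * y)⁻¹ * a') * J.ω ^ j) * J.ω ^ j := by rw [(hω j _).eq]
            _ = _ := by group
      _ = 1 := by
          rw [← hm, hj, ← pow_add, ← pow_add, ← add_assoc, show j + j + j = 3 * j by ring, pow_mul, J.ω3, one_pow]
  obtain ⟨b, hb_def⟩ : ∃ b, b = y * a * y⁻¹ := ⟨_, rfl⟩
  have hb : J.π b = F.y * F.a * F.y⁻¹ := by rw [hb_def, map_mul, map_mul, map_inv, hy, ha]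
  have hb3 : b ^ 3 = 1 := by rw [hb_def, conj_pow, ha3', mul_one, mul_inv_cancel]
  obtain ⟨k, hk⟩ : ∃ k, k = a * b * a⁻¹ * b⁻¹ := ⟨_, rfl⟩
  have hkk : J.π k = 1 := by
    rw [hk]; simp only [map_mul, map_inv, hb, ha]
    rw [mul_inv_eq_one, mul_inv_eq_iff_eq_mul]
    exact F.ab.eq
  have hk3' : k ^ 3 = 1 := by
    have e1 : k * b = a * b * a⁻¹ := by rw [hk]; group
    have e2 : (k * b) ^ 3 = 1 := by rw [e1, conj_pow, hb3, mul_one, mul_inv_cancel]
    rwa [(J.ker_comm _ hkk b).mul_pow, hb3, mul_one] at e2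
  obtain ⟨e, he⟩ := J.ker3 k hkk hk3'
  refine ⟨⟨a, y, ha, hy, ha3', hy8, hinv, e, fun h0 => ?_, ?_⟩⟩
  · have hk1 : k = 1 := by
      rw [he, ← Nat.mod_add_div e 3, h0, zero_add, pow_mul, J.ω3, one_pow]
    refine J.nonab a b ha3' hb3 (ha ▸ F.a1) (hb ▸ F.b1) ?_ ?_ ?_ ?_
    · rw [hb, ha]; exact F.ba
    · rw [hb, ha]; exact F.ba'
    · rw [hb, ha]; exact F.ab
    · rw [hk, mul_inv_eq_one, mul_inv_eq_iff_eq_mul] at hk1
      exact hk1
  · rw [← hb_def, ← he, hk]; group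

/-- Vectors where `a` acts as the `k`-th power of `ω`. -/
def eig (a : C) (k : ℕ) : AddSubgroup V where
  carrier := {v | a • v = J.ω ^ k • v}
  zero_mem' := by simp
  add_mem' := fun {u v} (hu : a • u = _) (hv : a • v = _) => by
    show a • (u + v) = _
    rw [smul_add, smul_add, hu, hv]
  neg_mem' := fun {v} (hv : a • v = _) => by
    show a • (-v) = _
    rw [smul_neg, smul_neg, hv]

theorem ωpow_comm (n : ℕ) (g : C) (v : V) : J.ω ^ n • g • v = g • J.ω ^ n • v := by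
  rw [← mul_smul, ← mul_smul, ((J.ker_comm _ J.πω g).pow_left n).eq]

theorem ωpow_congr {n m : ℕ} (h : n % 3 = m % 3) (v : V) : J.ω ^ n • v = J.ω ^ m • v := by
  rw [← Nat.mod_add_div n 3, ← Nat.mod_add_div m 3, pow_add, pow_add, pow_mul, pow_mul, J.ω3, one_pow, one_pow, h]

theorem ωpow_add (n m : ℕ) (v : V) : J.ω ^ n • J.ω ^ m • v = J.ω ^ (n + m) • v := by rw [pow_add, mul_smul]

theorem eig_congr (a : C) {n m : ℕ} (h : n % 3 = m % 3) : J.eig a n = J.eig a m := by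
  ext v; show a • v = _ ↔ a • v = _; rw [J.ωpow_congr h]

/-- The projection. -/
def proj (a : C) (k : ℕ) (v : V) : V := v + J.ω ^ (2 * k) • a • v + J.ω ^ k • a • a • v

theorem proj_mem {a : C} (ha : a ^ 3 = 1) (k : ℕ) (v : V) : J.proj a k v ∈ J.eig a k := by
  have ha' : ∀ w : V, a • a • a • w = w := fun w => by
    rw [← mul_smul, ← mul_smul, show a * a * a = a ^ 3 by simp [pow_succ, mul_assoc], ha, one_smul]
  show a • J.proj a k v = J.ω ^ k • J.proj a k v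
  have hc : ∀ (n : ℕ) (w : V), a • J.ω ^ n • w = J.ω ^ n • a • w := fun n w => (J.ωpow_comm n a w).symm
  simp only [proj, smul_add, hc, J.ωpow_add, ha']
  rw [J.ωpow_congr (n := k + 2 * k) (m := 0) (by omega), J.ωpow_congr (n := k + k) (m := 2 * k) (by omega),
    pow_zero, one_smul]
  abel

theorem proj_sum (a : C) (v : V) : J.proj a 0 v + J.proj a 1 v + J.proj a 2 v = v := by
  have h1 := J.ω_sum (a • v)
  have h2 := J.ω_sum (a • a • v)
  have h4 : J.ω ^ (2 * 2) • a • v = J.ω • a • v := by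
    rw [J.ωpow_congr (n := 2 * 2) (m := 1) (by norm_num), pow_one]
  simp only [proj, h4, mul_zero, mul_one, pow_zero, one_smul, pow_two, mul_smul, pow_one]
  have h3 : v + v + v = v := by rw [J.two, zero_add]
  calc _ = (v + v + v) + (a • v + J.ω • a • v + J.ω • J.ω • a • v)
        + (a • a • v + J.ω • a • a • v + J.ω • J.ω • a • a • v) := by abel
    _ = v := by rw [h1, h2, h3, add_zero, add_zero]

theorem proj_add (a : C) (k : ℕ) (u v : V) : J.proj a k (u + v) = J.proj a k u + J.proj a k v := by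
  simp only [proj, smul_add]; abel

theorem proj_eig {a : C} {k l : ℕ} {v : V} (hv : v ∈ J.eig a l) :
    J.proj a k v = if k % 3 = l % 3 then v else 0 := by
  have h : a • v = J.ω ^ l • v := hv
  have hh : a • J.ω ^ l • v = J.ω ^ (l + l) • v := by rw [← J.ωpow_comm, h, J.ωpow_add]
  simp only [proj, h, hh, J.ωpow_add]
  split_ifs with e
  · rw [J.ωpow_congr (n := 2 * k + l) (m := 0) (by omega), J.ωpow_congr (n := k + (l + l)) (m := 0) (by omega),
      pow_zero, one_smul, J.two, zero_add]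
  · have hk3 : k % 3 < 3 := Nat.mod_lt _ (by norm_num)
    have hl3 : l % 3 < 3 := Nat.mod_lt _ (by norm_num)
    rcases (by
      rw [Nat.add_mod (2 * k), Nat.mul_mod 2 k, Nat.add_mod k, Nat.add_mod l l]
      interval_cases k % 3 <;> interval_cases l % 3 <;> simp_all : (2 * k + l) % 3 = 1 ∧ (k + (l + l)) % 3 = 2 ∨ (2 * k + l) % 3 = 2 ∧ (k + (l + l)) % 3 = 1)
      with ⟨e1, e2⟩ | ⟨e1, e2⟩
    · rw [J.ωpow_congr (m := 1) e1, J.ωpow_congr (m := 2) e2, pow_one, pow_two, mul_smul]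
      exact J.ω_sum v
    · rw [J.ωpow_congr (m := 2) e1, J.ωpow_congr (m := 1) e2, pow_one, pow_two, mul_smul, add_right_comm]
      exact J.ω_sum v

theorem proj_mem_sub {a : C} {S : AddSubgroup V} (hω : ∀ v ∈ S, J.ω • v ∈ S) (ha : ∀ v ∈ S, a • v ∈ S)
    (k : ℕ) {v : V} (hv : v ∈ S) : J.proj a k v ∈ S := by
  have hp : ∀ n, ∀ w ∈ S, J.ω ^ n • w ∈ S := by
    intro n
    induction n with
    | zero => intro w hw; simpa using hw
    | succ n ih => intro w hw; rw [pow_succ', mul_smul]; exact hω _ (ih w hw)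
  exact add_mem (add_mem hv (hp _ _ (ha _ hv))) (hp _ _ (ha _ (ha _ hv)))

theorem card_eq_cube {F : MFacts M} (L : Lifts J F) (S : AddSubgroup V) (hω : ∀ v ∈ S, J.ω • v ∈ S)
    (ha : ∀ v ∈ S, L.a • v ∈ S) (hb : ∀ v ∈ S, (L.y * L.a * L.y⁻¹) • v ∈ S) :
    Nat.card S = Nat.card ↥(S ⊓ J.eig L.a 0) ^ 3 := by
  classical
  have := J.finiteV
  set n : ℕ → ℕ := fun k => Nat.card ↥(S ⊓ J.eig L.a k) with hn
  have hshift : ∀ k, n k ≤ n (k + L.e) := fun k => by
    refine Nat.card_le_card_of_injective (fun v : ↥(S ⊓ J.eig L.a k) => (⟨(L.y * L.a * L.y⁻¹) • (v : V),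
      hb _ v.2.1, ?_⟩ : ↥(S ⊓ J.eig L.a (k + L.e)))) fun u v h => Subtype.ext (smul_left_cancel _ (congrArg Subtype.val h))
    have hv : L.a • (v : V) = J.ω ^ k • (v : V) := v.2.2
    show L.a • (L.y * L.a * L.y⁻¹) • (v : V) = _
    rw [← mul_smul, L.comm, mul_smul, mul_smul (L.y * L.a * L.y⁻¹) L.a, hv, ← J.ωpow_comm, J.ωpow_add, add_comm]
  have hper : ∀ k m, k % 3 = m % 3 → n k = n m := fun k m h => by simp only [hn, J.eig_congr L.a h]
  have hall : ∀ k, n k = n 0 := by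
    have hstep : ∀ k, n (k + L.e) = n k := fun k => by
      have h1 := hshift k; have h2 := hshift (k + L.e); have h3 := hshift (k + L.e + L.e)
      have h4 := hper (k + L.e + L.e + L.e) k (by omega)
      omega
    intro k
    have h1 : n L.e = n 0 := by simpa using hstep 0
    have h2 : n (L.e + L.e) = n 0 := (hstep L.e).trans h1
    have he := L.e_ne
    rcases (by omega : k % 3 = 0 ∨ k % 3 = L.e % 3 ∨ k % 3 = (L.e + L.e) % 3) with h | h | h
    · exact hper k 0 (by omega)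
    · exact (hper _ _ h).trans h1
    · exact (hper _ _ h).trans h2
  let Φ : (↥(S ⊓ J.eig L.a 0) × ↥(S ⊓ J.eig L.a 1) × ↥(S ⊓ J.eig L.a 2)) → S := fun q =>
    ⟨(q.1 : V) + q.2.1 + q.2.2, add_mem (add_mem q.1.2.1 q.2.1.2.1) q.2.2.2.1⟩
  have hΦ : Function.Bijective Φ := by
    constructor
    · intro q q' h
      have h' : (q.1 : V) + q.2.1 + q.2.2 = (q'.1 : V) + q'.2.1 + q'.2.2 := congrArg Subtype.val h
      have hk : ∀ k < 3, J.proj L.a k ((q.1 : V) + q.2.1 + q.2.2) = J.proj L.a k ((q'.1 : V) + q'.2.1 + q'.2.2) :=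
        fun k _ => by rw [h']
      simp only [J.proj_add, J.proj_eig q.1.2.2, J.proj_eig q.2.1.2.2, J.proj_eig q.2.2.2.2,
        J.proj_eig q'.1.2.2, J.proj_eig q'.2.1.2.2, J.proj_eig q'.2.2.2.2] at hk
      have e0 := hk 0 (by norm_num); have e1 := hk 1 (by norm_num); have e2 := hk 2 (by norm_num)
      norm_num at e0 e1 e2
      exact Prod.ext e0 (Prod.ext e1 e2)
    · intro v
      exact ⟨(⟨_, J.proj_mem_sub hω ha 0 v.2, J.proj_mem L.a3 0 _⟩, ⟨_, J.proj_mem_sub hω ha 1 v.2, J.proj_mem L.a3 1 _⟩,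
        ⟨_, J.proj_mem_sub hω ha 2 v.2, J.proj_mem L.a3 2 _⟩), Subtype.ext (J.proj_sum L.a _)⟩
  rw [← Nat.card_eq_of_bijective Φ hΦ, Nat.card_prod, Nat.card_prod]
  show n 0 * (n 1 * n 2) = n 0 ^ 3
  rw [hall 1, hall 2]; ring

theorem card_eig {F : MFacts M} (L : Lifts J F) (k : ℕ) (hk : k < 2) : Nat.card ↥(J.eig L.a k) = 16 := by
  classical
  have h := J.card_eq_cube L ⊤ (fun _ _ => trivial) (fun _ _ => trivial) (fun _ _ => trivial)
  rw [AddSubgroup.card_top, J.cardV, top_inf_eq] at h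
  have h0 : Nat.card ↥(J.eig L.a 0) = 16 := Nat.pow_left_injective (by norm_num : (3 : ℕ) ≠ 0) (by simpa using h.symm)
  rcases (by omega : k = 0 ∨ k = 1) with rfl | rfl
  · exact h0
  have := J.finiteV
  set n : ℕ → ℕ := fun k => Nat.card ↥(J.eig L.a k)
  have hshift : ∀ k, n k ≤ n (k + L.e) := fun k => by
    refine Nat.card_le_card_of_injective (fun v : ↥(J.eig L.a k) => (⟨(L.y * L.a * L.y⁻¹) • (v : V), ?_⟩ :
      ↥(J.eig L.a (k + L.e)))) fun u v h => Subtype.ext (smul_left_cancel _ (congrArg Subtype.val h))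
    have hv : L.a • (v : V) = J.ω ^ k • (v : V) := v.2
    show L.a • (L.y * L.a * L.y⁻¹) • (v : V) = _
    rw [← mul_smul, L.comm, mul_smul, mul_smul (L.y * L.a * L.y⁻¹) L.a, hv, ← J.ωpow_comm, J.ωpow_add, add_comm]
  have hper : ∀ k m, k % 3 = m % 3 → n k = n m := fun k m h => by simp only [n, J.eig_congr L.a h]
  have he := L.e_ne
  rcases (by omega : L.e % 3 = 1 ∨ L.e % 3 = 2) with e | e
  · have a1 := hshift 0; have a2 := hshift L.e; have a3 := hshift (L.e + L.e)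
    have b1 := hper (0 + L.e) L.e (by omega); have b2 := hper (L.e + L.e + L.e) 0 (by omega)
    have b3 := hper 1 L.e (by omega)
    show n 1 = 16
    have : n 0 = 16 := h0
    omega
  · have a1 := hshift 0; have a2 := hshift L.e; have a3 := hshift (L.e + L.e)
    have b1 := hper (0 + L.e) L.e (by omega); have b2 := hper (L.e + L.e + L.e) 0 (by omega)
    have b3 := hper 1 (L.e + L.e) (by omega)
    show n 1 = 16
    have : n 0 = 16 := h0
    omega

end JMod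

end Cfsg.Agent.Lib.J4Type19
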