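import Cfsg.Agent.Lib.J4Type19.Data

/-! Kernel checks on the certificate for the two elementary subgroups of order 16 of M22. -/

set_option autoImplicit false
set_option maxRecDepth 100000

namespace Cfsg.Agent.Lib.J4Type19

open Cfsg.Agent.Lib.Compute Cfsg.Agent.Lib.Compute.Mathieu
open Cfsg.Agent.Lib.Fusion (memCode)

/-- Composition. -/
noncomputable def mc (p q : ℕ) : ℕ := mulP 8 24 p q

/-- The neutral code. -/
noncomputable def c1 : ℕ := (permOps 8 24).one

/-- The literals used. -/
def litList : List (ℕ × ℕ) :=
  [Data.ela, Data.ely, Data.fix0, Data.elc, Data.gn1, Data.gn2, Data.inv0] ++ Data.conjs ++ Data.u0 ++ Data.u2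

theorem lits_ok : litList.all (pairCheck 8 24 m22Chain) = true := by decide +kernel

/-- Listed codes form an elementary group of order 16. -/
noncomputable def elemOK (L : List ℕ) : Bool :=
  memCode c1 L && decide L.Nodup && Nat.beq L.length 16 &&
    (L.all fun x => Nat.beq (mc x x) c1) && L.all fun x => L.all fun y => memCode (mc x y) L

theorem u0_ok : elemOK (Data.u0.map Prod.fst) = true := by decide +kernel

theorem u2_ok : elemOK (Data.u2.map Prod.fst) = true := by decide +kernel

/-- A pair normalises a list. -/
noncomputable def normOK (g : ℕ × ℕ) (L : List ℕ) : Bool :=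
  L.all fun x => memCode (mc (mc g.1 x) g.2) L

/-- The second element of order three. -/
noncomputable def cb : ℕ := mc (mc Data.ely.1 Data.ela.1) Data.ely.2

theorem ay_ok : (Nat.beq (mc Data.ela.1 (mc Data.ela.1 Data.ela.1)) c1 && !Nat.beq Data.ela.1 c1 &&
    Nat.beq (mc (mc Data.ely.1 Data.ely.1) (mc Data.ely.1 Data.ely.1)) c1 &&
    Nat.beq (mc Data.ela.1 cb) (mc cb Data.ela.1) &&
    !Nat.beq cb c1 && !Nat.beq cb Data.ela.1 && !Nat.beq cb Data.ela.2 &&
    Nat.beq (mc (mc Data.ely.1 cb) Data.ely.2) Data.ela.2) = true := by decide +kernel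

theorem norm_a : (normOK Data.ela (Data.u0.map Prod.fst) &&
    normOK (cb, mc (mc Data.ely.1 Data.ela.2) Data.ely.2) (Data.u0.map Prod.fst)) = true := by decide +kernel

theorem trans_ok : (Data.conjs.all (fun g => normOK g (Data.u0.map Prod.fst)) &&
    memCode Data.inv0.1 (Data.u0.map Prod.fst) && !Nat.beq Data.inv0.1 c1 &&
    (Data.u0.map Prod.fst).all fun x => Nat.beq x c1 ||
      Data.conjs.any fun g => Nat.beq (mc (mc g.1 Data.inv0.1) g.2) x) = true := by decide +kernel

theorem c_ok : (Nat.beq (mc Data.elc.1 (mc Data.elc.1 Data.elc.1)) c1 &&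
    normOK Data.elc (Data.u0.map Prod.fst) && normOK Data.gn1 (Data.u2.map Prod.fst) &&
    normOK Data.gn2 (Data.u2.map Prod.fst) && memCode Data.fix0.1 (Data.u0.map Prod.fst) &&
    memCode Data.fix0.1 (Data.u2.map Prod.fst) && !Nat.beq Data.fix0.1 c1 &&
    Nat.beq (mc Data.elc.1 Data.fix0.1) (mc Data.fix0.1 Data.elc.1)) = true := by decide +kernel

/-- Value of a word in the three generators. -/
noncomputable def wval : List ℕ → ℕ :=
  fun l => List.rec (motive := fun _ => ℕ) c1
    (fun j _ r => mc (([Data.gn1.1, Data.gn2.1, Data.elc.1]).getD j c1) r) l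

theorem words_ok : Data.words.map wval = m22Gens.map Prod.fst := by decide +kernel

/-- The involutions of the Sylow subgroup outside the two lists. -/
noncomputable def badInv : List ℕ :=
  (elems (permOps 8 24) Fusion.Mathieu.m22SylChain).filter fun x =>
    Nat.beq (mc x x) c1 && !memCode x (Data.u0.map Prod.fst) && !memCode x (Data.u2.map Prod.fst)

/-- The elements of the Sylow subgroup squaring to one. -/
noncomputable def sqOne : List ℕ :=
  (elems (permOps 8 24) Fusion.Mathieu.m22SylChain).filter fun x => Nat.beq (mc x x) c1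

/-- Members of a list commuting with an element. -/
noncomputable def commL (x : ℕ) (L : List ℕ) : List ℕ := L.filter fun y => Nat.beq (mc x y) (mc y x)

theorem no_other : (badInv.all fun x => forceNat x fun x =>
    let Lx := commL x sqOne
    Lx.all fun y => forceNat y fun y => Nat.beq y c1 || Nat.beq y x ||
      (let Ly := commL y Lx
       Ly.all fun z => forceNat z fun z => forceNat (mc x y) fun xy => memCode z [c1, x, y, xy] ||
         (let span := [c1, x, y, xy, z, mc x z, mc y z, mc xy z]
          (commL z Ly).all fun w => memCode w span))) = true := by decide +kernel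

end Cfsg.Agent.Lib.J4Type19
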