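import Cfsg.Agent.Lib.J4Type19.Planes2
import Cfsg.Agent.Lib.J4Type19.Central

/-!
# The elementary abelian subgroups of order `2 ^ 11`
-/

set_option autoImplicit false

namespace Cfsg.Agent.Lib.J4Type19

open Cfsg

attribute [local instance] m22_finite

variable {G : Type*} [Group G] [Finite G] {z : G} {P : Subgroup G}

namespace HData

variable (D : HData z P)
include D

theorem cE_conj' {h e : G} (hh : h ∈ cH z) (he : e ∈ cE z) : h⁻¹ * e * h ∈ cE z := by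
  have := cE_conj (inv_mem hh) he
  rwa [inv_inv] at this

theorem φ_cE {e : G} (he : e ∈ cE z) : D.φ ⟨e, cE_le z he⟩ = 1 :=
  (D.φ_eq _).2 ⟨e, he, 1, one_mem P, (mul_one e).symm⟩

theorem φ_inner {h : ↥(cH z)} {e : G} (he : e ∈ cE z) (c : ↥(cC z P)) (hh : (h : G) = e * (c : G)) :
    D.φ h = MulAut.conj (D.π c) := by
  rw [D.π_eq, show h = ⟨e, cE_le z he⟩ * ⟨(c : G), c.2.1⟩ from Subtype.ext hh, map_mul, D.φ_cE he, one_mul]

theorem φ_outer {h : ↥(cH z)} {e : G} (he : e ∈ cE z) (c : ↥(cC z P))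
    (hh : (h : G) = e * ((D.t : G) * (c : G))) : D.φ h ∉ Inn M22t := by
  rw [show h = ⟨e, cE_le z he⟩ * (D.t * ⟨(c : G), c.2.1⟩) from Subtype.ext hh, map_mul, map_mul, D.φ_cE he,
    one_mul, ← D.π_eq, Subgroup.mul_mem_cancel_right _ (show MulAut.conj (D.π c) ∈ Inn M22t from ⟨_, rfl⟩)]
  exact D.φt

theorem smul_p_mk (e : ↥(cE z)) : D.toJMod.ω • mk e = mk (cEAut D.p D.pH e) := rfl

theorem mk_conj_cE {e : G} (he : e ∈ cE z) (d : ↥(cE z)) : mk (cEAut e (cE_le z he) d) = mk d := by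
  rw [show cEAut e (cE_le z he) d = ⟨e, he⟩ * d * ⟨e, he⟩⁻¹ from Subtype.ext rfl, mk_mul, mk_mul,
    add_comm (mk ⟨e, he⟩), add_assoc, ← mk_mul, mul_inv_cancel, mk_one, add_zero]

theorem mk_map {h : G} (hh : h ∈ cH z) {x y : ↥(cE z)} (e : mk x = mk y) :
    mk (cEAut h hh x) = mk (cEAut h hh y) :=
  congrArg (fun v : cV z => Additive.ofMul (Abelianization.map (cEAut h hh) (Additive.toMul v))) e

theorem fix_of_smul {c c' : ↥(cC z P)} (h : D.π c = D.π c') (h2 : D.π c * D.π c = 1) (h4 : c' ^ 4 = 1) {v : cV z}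
    (hv : c • v = v) : c' • v = v := by
  obtain ⟨k, hk⟩ : ∃ k, k = c'⁻¹ * c := ⟨_, rfl⟩
  have hk1 : D.toJMod.π k = 1 := by
    show D.π k = 1
    rw [hk, map_mul, map_inv, h, inv_mul_cancel]
  obtain ⟨j, hj⟩ := D.toJMod.ker_act k hk1
  have e1 : c' • D.toJMod.ω ^ j • v = v := by rw [← hj, ← mul_smul, hk, mul_inv_cancel_left, hv]
  have e2 : ∀ w : cV z, c' • c' • w = w := fun w =>
    D.toJMod.lift_sq_smul (c := c') (show D.π c' * D.π c' = 1 by rw [← h, h2]) h4 w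
  have e3 : D.toJMod.ω ^ (2 * j) • v = v := by
    rw [two_mul, ← D.toJMod.ωpow_add]
    conv_lhs => arg 2; rw [← e2 (D.toJMod.ω ^ j • v), e1]
    rw [D.toJMod.ωpow_comm, e1]
  by_cases hj3 : j % 3 = 0
  · rw [D.toJMod.ωpow_congr (m := 0) (by omega), pow_zero, one_smul] at e1
    exact e1
  · have h0 : v = 0 := by
      refine D.toJMod.ωfix v ?_
      rcases (by omega : 2 * j % 3 = 1 ∨ 2 * j % 3 = 2) with e | e
      · rw [D.toJMod.ωpow_congr (m := 1) e, pow_one] at e3; exact e3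
      · rw [D.toJMod.ωpow_congr (m := 2) e, pow_two, mul_smul] at e3
        conv_lhs => rw [← e3]
        exact D.toJMod.ω3_smul v
    rw [h0, smul_zero]

/-- The part of a subgroup inside the extraspecial group, as vectors. -/
def traceV (B : Subgroup G) : AddSubgroup (cV z) where
  carrier := {v | ∃ e : ↥(cE z), (e : G) ∈ B ∧ mk e = v}
  zero_mem' := ⟨1, one_mem B, mk_one⟩
  add_mem' := by
    rintro u v ⟨e, he, rfl⟩ ⟨f, hf, rfl⟩
    exact ⟨e * f, mul_mem he hf, mk_mul e f⟩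
  neg_mem' := by
    rintro v ⟨e, he, rfl⟩
    refine ⟨e⁻¹, inv_mem he, eq_neg_of_add_eq_zero_left ?_⟩
    rw [← mk_mul, inv_mul_cancel, mk_one]

theorem sq_order (j : ℕ) (h : D.p ^ (2 * j) ∈ cE z) : D.p ^ j = 1 := by
  have h1 : orderOf (D.p ^ (2 * j)) ∣ 2 ^ 13 := cardE D.hJ ▸ Subgroup.orderOf_dvd_natCard _ h
  have h2 : orderOf (D.p ^ (2 * j)) ∣ 3 :=
    orderOf_dvd_of_pow_eq_one (by rw [← pow_mul, mul_comm, pow_mul, D.p3, one_pow])
  have := Nat.dvd_gcd h1 h2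
  rw [show Nat.gcd (2 ^ 13) 3 = 1 by norm_num, Nat.dvd_one, orderOf_eq_one_iff] at this
  calc D.p ^ j = D.p ^ j * D.p ^ (3 * j) := by rw [pow_mul D.p 3, D.p3, one_pow, mul_one]
    _ = D.p ^ (2 * j) * D.p ^ (2 * j) := by rw [← pow_add, ← pow_add]; congr 1; ring
    _ = 1 := by rw [this, one_mul]

theorem key {F : MFacts M22t} (L : Lifts D.toJMod F) {B : Subgroup G} (hB : B ≤ cH z) (hsq : ∀ b ∈ B, b * b = 1)
    (hc : Nat.card ↥B = 2 ^ 11) :
    ∃ U : Subgroup M22t, D.toJMod.Good U ∧ (∀ b (hb : b ∈ B), ∃ u ∈ U, D.φ ⟨b, hB hb⟩ = MulAut.conj u) ∧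
      (∀ u ∈ U, ∃ b, ∃ hb : b ∈ B, D.φ ⟨b, hB hb⟩ = MulAut.conj u) ∧
      ∀ e : ↥(cE z), mk e ∈ D.toJMod.fix U → (e : G) ∈ B := by
  classical
  have := D.toJMod.finiteV
  obtain ⟨ψ, hψ⟩ : ∃ ψ : ↥B →* MulAut M22t, ψ = D.φ.comp (Subgroup.inclusion hB) := ⟨_, rfl⟩
  have hψb : ∀ b : ↥B, ψ b = D.φ ⟨(b : G), hB b.2⟩ := fun b => by rw [hψ]; rfl
  have hker : ψ.ker = (cE z).subgroupOf B := by
    ext ⟨b, hb⟩
    rw [MonoidHom.mem_ker, Subgroup.mem_subgroupOf, hψb]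
    constructor
    · intro h1
      obtain ⟨e, he, q, hq, heq⟩ := (D.φ_eq _).1 h1
      have heq' : b = e * q := heq
      obtain ⟨j, rfl⟩ : ∃ j : ℕ, q = D.p ^ j := by
        rcases (D.mem_P q).1 hq with rfl | rfl | rfl
        exacts [⟨0, by simp⟩, ⟨1, by simp⟩, ⟨2, by rw [pow_two]⟩]
      have h2 : D.p ^ (2 * j) ∈ cE z := by
        have hb2 := hsq b hb
        rw [heq'] at hb2
        rw [show D.p ^ (2 * j) = (e * (D.p ^ j * e * (D.p ^ j)⁻¹))⁻¹ by
          refine eq_inv_of_mul_eq_one_right ?_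
          rw [← hb2, two_mul, pow_add]; group]
        exact inv_mem (mul_mem he (cE_conj (pow_mem D.pH j) he))
      show b ∈ cE z
      rw [heq', D.sq_order j h2, mul_one]; exact he
    · exact fun h => D.φ_cE h
  obtain ⟨Db, hDb⟩ : ∃ Db, Db = traceV (z := z) B := ⟨_, rfl⟩
  have hmemDb : ∀ v, v ∈ Db ↔ ∃ e : ↥(cE z), (e : G) ∈ B ∧ mk e = v := fun v => by rw [hDb]; rfl
  let emb : ↥ψ.ker → ↥(pre Db) := fun b => ⟨⟨((b : ↥B) : G), (hker.le b.2 : _)⟩,
    show mk _ ∈ Db from (hmemDb _).2 ⟨_, (b : ↥B).2, rfl⟩⟩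
  have hemb : Function.Injective emb := fun b b' h =>
    Subtype.ext (Subtype.ext (congrArg (fun x : ↥(pre Db) => ((x : ↥(cE z)) : G)) h))
  have hkle : Nat.card ↥ψ.ker ≤ 2 * Nat.card ↥Db := card_pre D.hJ Db ▸ Nat.card_le_card_of_injective emb hemb
  have hiso : ∀ u ∈ Db, ∀ v ∈ Db, D.toJMod.β u v = 0 := by
    intro u hu v hv
    obtain ⟨e, he, rfl⟩ := (hmemDb u).1 hu
    obtain ⟨f, hf, rfl⟩ := (hmemDb v).1 hv
    exact pair_eq_zero.2 (Subtype.ext (comm_of_sq_all hsq he hf))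
  have hDle : Nat.card ↥Db ≤ 2 ^ 6 := by
    have h1 : Nat.card ↥Db ≤ Nat.card ↥(perpOf D.toJMod.β Db) :=
      AddSubgroup.card_le_of_le (fun u hu v hv => hiso u hu v hv)
    have h2 := D.toJMod.perp Db
    have h3 : Nat.card ↥Db * Nat.card ↥Db ≤ 2 ^ 12 := h2 ▸ Nat.mul_le_mul_left _ h1
    by_contra hlt
    have := Nat.mul_self_lt_mul_self (lt_of_not_ge hlt)
    omega
  obtain ⟨U, hUdef⟩ : ∃ U, U = ψ.range.comap (MulAut.conj : M22t →* MulAut M22t) := ⟨_, rfl⟩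
  have hUm : ∀ u, u ∈ U ↔ MulAut.conj u ∈ ψ.range := fun u => by rw [hUdef]; rfl
  have hU2 : ∀ u ∈ U, u * u = 1 := fun u hu => by
    obtain ⟨⟨b, hb⟩, hbu⟩ := (hUm u).1 hu
    apply m22_conj_injective
    rw [map_mul, ← hbu, ← map_mul, map_one, show (⟨b, hb⟩ : ↥B) * ⟨b, hb⟩ = 1 from Subtype.ext (hsq b hb), map_one]
  have hU16 : Nat.card ↥U ≤ 16 := by
    obtain ⟨g, hg⟩ := F.sylow U fun u => ⟨1, Subtype.ext (by
      rw [SubgroupClass.coe_pow, pow_one, pow_two]; exact hU2 u u.2)⟩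
    rw [Nat.card_congr (Subgroup.equivMapOfInjective U (MulAut.conj g).toMonoidHom (MulAut.conj g).injective).toEquiv]
    refine (F.small _ ?_ ?_).1
    · rintro _ ⟨x, hx, rfl⟩; exact hg x hx
    · rintro _ ⟨x, hx, rfl⟩; rw [← map_mul, hU2 x hx, map_one]
  have hUR : Nat.card ↥U = Nat.card ↥(ψ.range ⊓ Inn M22t) := by
    rw [Nat.card_congr (Subgroup.equivMapOfInjective U _ m22_conj_injective).toEquiv, hUdef,
      Subgroup.map_comap_eq, inf_comm]
  have hprod : Nat.card ↥ψ.ker * Nat.card ↥ψ.range = 2 ^ 11 := by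
    rw [← Subgroup.index_ker, Subgroup.card_mul_index, hc]
  have hfix : Db ≤ D.toJMod.fix U := by
    intro v hv c' hc' h4
    obtain ⟨d, hd, rfl⟩ := (hmemDb v).1 hv
    obtain ⟨⟨b, hb⟩, hbu⟩ := (hUm _).1 hc'
    rw [hψb] at hbu
    obtain ⟨e, he, c, hcC, h | h⟩ := D.decomp ⟨b, hB hb⟩
    · have hb' : b = e * c := h
      have hπ : D.π ⟨c, hcC⟩ = D.π c' := m22_conj_injective (by
        rw [← D.φ_inner he ⟨c, hcC⟩ h]; exact hbu)
      refine D.fix_of_smul hπ (by rw [hπ]; exact hU2 _ hc') h4 ?_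
      rw [smul_mk]
      have hcd : c * (d : G) * c⁻¹ = e⁻¹ * d * e⁻¹⁻¹ := by
        have hcomm : b * (d : G) * b⁻¹ = d := by rw [comm_of_sq_all hsq hb hd, mul_inv_cancel_right]
        conv_rhs => rw [← hcomm, hb']
        group
      rw [show cEAut c hcC.1 d = cEAut e⁻¹ (cE_le z (inv_mem he)) d from Subtype.ext hcd]
      exact D.mk_conj_cE (inv_mem he) d
    · exact absurd (hbu.symm ▸ ⟨_, rfl⟩ : D.φ ⟨b, hB hb⟩ ∈ Inn M22t) (D.φ_outer he ⟨c, hcC⟩ h)
  by_cases hout : ψ.range ≤ Inn M22t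
  · rw [inf_eq_left.2 hout] at hUR
    have hU : Nat.card ↥U = 16 := by
      refine le_antisymm hU16 ?_
      by_contra hlt
      have : Nat.card ↥ψ.ker * Nat.card ↥ψ.range ≤ (2 * 2 ^ 6) * 15 :=
        Nat.mul_le_mul (hkle.trans (Nat.mul_le_mul_left 2 hDle)) (by omega)
      omega
    rw [← hUR, hU] at hprod
    have hD6 : Nat.card ↥Db = 2 ^ 6 := le_antisymm hDle (by omega)
    have hgood : D.toJMod.Good U := ⟨hU, hU2, Db, hfix, hD6, hiso⟩
    refine ⟨U, hgood, fun b hb => ?_, fun u hu => ?_, fun e he => ?_⟩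
    · obtain ⟨u, hu⟩ := hout ⟨⟨b, hb⟩, rfl⟩
      exact ⟨u, (hUm u).2 ⟨⟨b, hb⟩, hu.symm⟩, by rw [hu, hψb]⟩
    · obtain ⟨⟨b, hb⟩, hbu⟩ := (hUm u).1 hu
      exact ⟨b, hb, by rw [← hbu, hψb]⟩
    · have heq : Db = D.toJMod.fix U :=
        D.toJMod.eq_of_card hfix (by rw [(D.toJMod.good_fix L hgood).1, hD6])
      have hbij : Function.Bijective emb := (Nat.bijective_iff_injective_and_card emb).2
        ⟨hemb, by rw [card_pre D.hJ, hD6]; omega⟩
      obtain ⟨b, hbe⟩ := hbij.2 ⟨e, show mk e ∈ Db by rw [heq]; exact he⟩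
      rw [← show ((b : ↥B) : G) = e from congrArg (fun x : ↥(pre Db) => ((x : ↥(cE z)) : G)) hbe]
      exact (b : ↥B).2
  · exfalso
    obtain ⟨τ, hτr, hτI⟩ := SetLike.not_le_iff_exists.1 hout
    have hidx : (Inn M22t).index = 2 := Compute.Mathieu.card_out_M22
    have h2r : Nat.card ↥ψ.range ≤ 2 * Nat.card ↥(ψ.range ⊓ Inn M22t) := by
      let m : ↥ψ.range → Bool × ↥(ψ.range ⊓ Inn M22t) := fun x =>
        if hx : (x : MulAut M22t) ∈ Inn M22t then (true, ⟨x, x.2, hx⟩)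
        else (false, ⟨τ * x, mul_mem hτr x.2,
          (Subgroup.mul_mem_iff_of_index_two hidx).2 (iff_of_false hτI hx)⟩)
      have hm : Function.Injective m := by
        intro x y hxy
        simp only [m] at hxy
        split at hxy <;> split at hxy <;>
          simp only [Prod.mk.injEq, Subtype.mk.injEq, mul_right_inj, Bool.true_eq_false, Bool.false_eq_true,
            false_and, true_and] at hxy
        · exact Subtype.ext (congrArg Subtype.val hxy :)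
        · exact Subtype.ext (mul_left_cancel (congrArg Subtype.val hxy :))
      have := Nat.card_le_card_of_injective m hm
      rwa [Nat.card_prod, Nat.card_eq_fintype_card (α := Bool), Fintype.card_bool] at this
    rw [← hUR] at h2r
    have hU8 : 8 ≤ Nat.card ↥U := by
      by_contra hlt
      have : Nat.card ↥ψ.ker * Nat.card ↥ψ.range ≤ (2 * 2 ^ 6) * 14 :=
        Nat.mul_le_mul (hkle.trans (Nat.mul_le_mul_left 2 hDle)) (by omega)
      omega
    obtain ⟨⟨u, hu⟩, hu1⟩ : ∃ u : ↥U, u ≠ 1 := by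
      have : Nontrivial ↥U := Finite.one_lt_card_iff_nontrivial.1 (by omega)
      exact exists_ne 1
    obtain ⟨c', hc', h4⟩ := D.toJMod.exists_two_lift (hU2 u hu)
    have hDfix : Db ≤ fixElt c' := hfix.trans (D.toJMod.fix_le_fixElt (by rw [hc']; exact hu) h4)
    obtain ⟨⟨b, hb⟩, hbτ⟩ := hτr
    rw [hψb] at hbτ
    obtain ⟨e, he, c, hcC, h | h⟩ := D.decomp ⟨b, hB hb⟩
    · refine hτI ?_
      rw [← hbτ, D.φ_inner he ⟨c, hcC⟩ h]
      exact ⟨_, rfl⟩
    have hb' : b = e * ((D.t : G) * c) := h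
    have hmH : (D.t : G) * c ∈ cH z := mul_mem D.t.2 hcC.1
    have hmfix : ∀ d : ↥(cE z), (d : G) ∈ B → mk (cEAut _ hmH d) = mk d := by
      intro d hd
      have hcomm : b * (d : G) * b⁻¹ = d := by rw [comm_of_sq_all hsq hb hd, mul_inv_cancel_right]
      have hcd : (D.t : G) * c * (d : G) * ((D.t : G) * c)⁻¹ = e⁻¹ * d * e⁻¹⁻¹ := by
        conv_rhs => rw [← hcomm, hb']
        group
      rw [show cEAut _ hmH d = cEAut e⁻¹ (cE_le z (inv_mem he)) d from Subtype.ext hcd]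
      exact D.mk_conj_cE (inv_mem he) d
    have hdis : ∀ d ∈ Db, D.toJMod.ω • d ∈ Db → d = 0 := by
      intro d hd hd'
      obtain ⟨e1, he1, rfl⟩ := (hmemDb d).1 hd
      obtain ⟨e2, he2, he2'⟩ := (hmemDb _).1 hd'
      have h1 : mk (cEAut _ hmH e2) = mk e2 := hmfix e2 he2
      have hp' : (D.t : G) * c * D.p * ((D.t : G) * c)⁻¹ = D.p⁻¹ := by
        have hcp : c * D.p * c⁻¹ = D.p := by
          rw [← Subgroup.mem_centralizer_iff.1 hcC.2 D.p D.p_mem]; group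
        rw [show (D.t : G) * c * D.p * ((D.t : G) * c)⁻¹ = D.t * (c * D.p * c⁻¹) * (D.t : G)⁻¹ by group, hcp, D.tp]
      have h2 : cEAut _ hmH (cEAut D.p D.pH e1) = cEAut D.p⁻¹ (inv_mem D.pH) (cEAut _ hmH e1) := by
        apply Subtype.ext
        show (D.t : G) * c * (D.p * e1 * D.p⁻¹) * ((D.t : G) * c)⁻¹
          = D.p⁻¹ * ((D.t : G) * c * e1 * ((D.t : G) * c)⁻¹) * D.p⁻¹⁻¹
        conv_rhs => rw [← hp']
        group
      rw [D.smul_p_mk] at he2'
      have h3 : mk e2 = mk (cEAut D.p⁻¹ (inv_mem D.pH) e1) := by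
        rw [← h1, D.mk_map hmH he2', h2, D.mk_map (inv_mem D.pH) (hmfix e1 he1)]
      refine D.toJMod.ωfix _ ?_
      -- applying `ω` twice gives the vector back
      have h4' : D.toJMod.ω • D.toJMod.ω • mk e1 = mk e1 := by
        rw [D.smul_p_mk e1, ← he2', h3, D.smul_p_mk]
        congr 1
        apply Subtype.ext
        show D.p * (D.p⁻¹ * (e1 : G) * D.p⁻¹⁻¹) * D.p⁻¹ = (e1 : G)
        group
      conv_lhs => rw [← h4']
      exact D.toJMod.ω3_smul _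
    have hsq8 := D.toJMod.card_sq L (c := c') (by rw [hc']; exact hU2 u hu)
      (by rw [hc']; exact fun h => hu1 (Subtype.ext h)) h4 hDfix hdis
    have hD4 : Nat.card ↥Db ≤ 2 ^ 4 := by
      by_contra hlt
      have := Nat.mul_self_lt_mul_self (lt_of_not_ge hlt)
      omega
    have : Nat.card ↥ψ.ker * Nat.card ↥ψ.range ≤ (2 * 2 ^ 4) * (2 * 16) :=
      Nat.mul_le_mul (hkle.trans (Nat.mul_le_mul_left 2 hD4)) (h2r.trans (Nat.mul_le_mul_left 2 hU16))
    omega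

theorem ker_two {k : ↥(cC z P)} (hk : D.π k = 1) (h2 : k * k = 1) : (k : G) = 1 ∨ (k : G) = z := by
  obtain ⟨j, h⟩ := (D.ker_iff k).1 hk
  have hkk : (k : G) * k = 1 := congrArg Subtype.val h2
  have hj : D.p ^ (2 * j) = 1 := by
    rcases h with h | h
    · rw [h, ← pow_add, ← two_mul] at hkk; exact hkk
    · have hc : Commute z (D.p ^ j) := Commute.pow_right (D.comm_z D.pC) j
      rw [h, mul_assoc, ← mul_assoc (D.p ^ j), ← hc.eq, mul_assoc z (D.p ^ j), ← mul_assoc, z_sq D.hJ, one_mul,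
        ← pow_add, ← two_mul] at hkk
      exact hkk
  have := D.sq_order j (hj ▸ one_mem _)
  rcases h with h | h
  · exact Or.inl (h.trans this)
  · exact Or.inr (by rw [h, this, mul_one])

theorem ker_four {k : ↥(cC z P)} (hk : D.π k = 1) (h4 : k ^ 4 = 1) : k * k = 1 := by
  have h6 := D.toJMod.ker_pow k hk
  rwa [show (6 : ℕ) = 4 + 2 from rfl, pow_add, h4, one_mul, pow_two] at h6

theorem pow_four_mul {U : Subgroup M22t} (hU : ∀ u ∈ U, u * u = 1) {c c' : ↥(cC z P)} (h : D.π c ∈ U)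
    (h' : D.π c' ∈ U) (h4 : c ^ 4 = 1) (h4' : c' ^ 4 = 1) : (c * c') ^ 4 = 1 := by
  have hc2 : D.π (c * c) = 1 := by rw [map_mul, hU _ h]
  have hc2' : D.π (c' * c') = 1 := by rw [map_mul, hU _ h']
  obtain ⟨k, hk⟩ : ∃ k, k = c' * c * c'⁻¹ * c⁻¹ := ⟨_, rfl⟩
  have hk1 : D.π k = 1 := by
    rw [hk]; simp only [map_mul, map_inv]
    rw [comm_of_sq_all hU h' h, mul_inv_cancel_right, mul_inv_cancel]
  have hkc : ∀ g, Commute k g := D.toJMod.ker_comm k hk1
  have e : c' * c = k * (c * c') := by rw [hk]; group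
  have hsq2 : (c * c') * (c * c') = k * ((c * c) * (c' * c')) := by
    calc (c * c') * (c * c') = c * (c' * c) * c' := by group
      _ = c * (k * (c * c')) * c' := by rw [e]
      _ = (c * k) * (c * c') * c' := by group
      _ = (k * c) * (c * c') * c' := by rw [(hkc c).eq]
      _ = _ := by group
  have hk2 : k * k = 1 := by
    have e1 : k * c = c' * c * c'⁻¹ := by rw [hk]; group
    have e2 : (k * c) * (k * c) = c * c := by
      rw [e1, show c' * c * c'⁻¹ * (c' * c * c'⁻¹) = c' * (c * c) * c'⁻¹ by group,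
        ← (D.toJMod.ker_comm _ hc2 c').eq, mul_inv_cancel_right]
    rwa [show k * c * (k * c) = k * (c * k) * c by group, ← (hkc c).eq,
      show k * (k * c) * c = k * k * (c * c) by group, mul_eq_right] at e2
  have ha : (c * c) * (c * c) = 1 := by rw [← h4]; simp [pow_succ, mul_assoc]
  have hb : (c' * c') * (c' * c') = 1 := by rw [← h4']; simp [pow_succ, mul_assoc]
  rw [show (c * c') ^ 4 = ((c * c') * (c * c')) * ((c * c') * (c * c')) by simp [pow_succ, mul_assoc], hsq2,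
    (hkc _).symm.mul_mul_mul_comm, hk2, one_mul,
    (show Commute (c' * c') (c * c) from D.toJMod.ker_comm _ hc2' _).mul_mul_mul_comm, ha, hb, one_mul]

theorem sq_congr {c c' : ↥(cC z P)} (h : D.π c = D.π c') (h2 : D.π c * D.π c = 1) (h4 : c ^ 4 = 1)
    (h4' : c' ^ 4 = 1) : c * c = c' * c' := by
  obtain ⟨k, hk⟩ : ∃ k, k = c⁻¹ * c' := ⟨_, rfl⟩
  have hk1 : D.π k = 1 := by rw [hk, map_mul, map_inv, h, inv_mul_cancel]
  have hkc : ∀ g, Commute k g := D.toJMod.ker_comm k hk1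
  have hc' : c' = c * k := by rw [hk, mul_inv_cancel_left]
  have h44 : k ^ 4 = 1 := by
    have := (hkc c).symm.mul_pow 4
    rwa [← hc', h4', h4, one_mul, eq_comm] at this
  rw [hc', show c * k * (c * k) = c * (k * c) * k by group, (hkc c).eq,
    show c * (c * k) * k = c * c * (k * k) by group, D.ker_four hk1 h44, mul_one]

theorem lift_sq_U0 {F : MFacts M22t} {c : ↥(cC z P)} (hc : D.π c ∈ F.U0) (h4 : c ^ 4 = 1) : c * c = 1 := by
  classical
  by_contra hne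
  have hsqU := F.sq0
  have hsq : ∀ {d : ↥(cC z P)}, D.π d ∈ F.U0 → d ^ 4 = 1 → ((d * d : ↥(cC z P)) : G) = 1 ∨ ((d * d : ↥(cC z P)) : G) = z :=
    fun {d} hd hd4 => D.ker_two (by rw [map_mul, hsqU _ hd]) (by rw [← hd4]; simp [pow_succ, mul_assoc])
  obtain ⟨w, hw⟩ : ∃ w : ↥(cC z P), w = c * c := ⟨_, rfl⟩
  have hwz : (w : G) = z := by
    rw [hw]; exact (hsq hc h4).resolve_left fun h => hne (Subtype.ext h)
  have hc1 : D.π c ≠ 1 := fun h => hne (D.ker_four h h4)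
  obtain ⟨u, hu, hu1, htr⟩ := F.trans
  obtain ⟨l, hl, hl4⟩ := D.toJMod.exists_two_lift (hsqU u hu)
  have hwc : ∀ g : ↥(cC z P), Commute w g := fun g => Subtype.ext (by
    rw [Subgroup.coe_mul, Subgroup.coe_mul, hwz]; exact D.comm_z g)
  have hall : ∀ {d : ↥(cC z P)}, D.π d ∈ F.U0 → D.π d ≠ 1 → d ^ 4 = 1 → d * d = l * l := by
    intro d hd hd1 hd4
    obtain ⟨g, -, hgu⟩ := htr _ hd hd1
    obtain ⟨g, rfl⟩ := D.πsurj g
    have hll : D.π (l * l) = 1 := by rw [map_mul, show D.π l = u from hl, hsqU u hu]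
    rw [D.sq_congr (c' := g * l * g⁻¹) (by rw [map_mul, map_mul, map_inv, show D.π l = u from hl, hgu])
        (hsqU _ hd) hd4 (D.toJMod.conj_four hl4),
      show g * l * g⁻¹ * (g * l * g⁻¹) = g * (l * l) * g⁻¹ by group,
      ← (D.toJMod.ker_comm _ hll g).eq, mul_inv_cancel_right]
  have hll : l * l = w := by rw [hw, hall hc hc1 h4]
  have hww : w * w = 1 := by
    apply Subtype.ext
    rw [Subgroup.coe_mul, hwz, z_sq D.hJ]; rfl
  -- distinct non-trivial elements lift to non-commuting elements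
  have hnc : ∀ {X Y : ↥(cC z P)}, D.π X ∈ F.U0 → D.π Y ∈ F.U0 → X ^ 4 = 1 → Y ^ 4 = 1 → D.π X ≠ 1 → D.π Y ≠ 1 →
      D.π X ≠ D.π Y → Y * X = X * Y * w := by
    intro X Y hX hY hX4 hY4 hX1 hY1 hXY
    have h1 := hall hX hX1 hX4
    have h2 := hall hY hY1 hY4
    have h3 := hall (d := X * Y) (by rw [map_mul]; exact mul_mem hX hY) (fun h => hXY (by
      rw [map_mul] at h
      rw [← inv_eq_of_mul_eq_one_right h, inv_eq_of_mul_eq_one_right (hsqU _ hX)]))
      (D.pow_four_mul hsqU hX hY hX4 hY4)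
    rw [hll] at h1 h2 h3
    have hXi : X⁻¹ = X * w := inv_eq_of_mul_eq_one_right (by rw [← mul_assoc, h1, hww])
    have hYi : Y⁻¹ = Y * w := inv_eq_of_mul_eq_one_right (by rw [← mul_assoc, h2, hww])
    calc Y * X = X⁻¹ * ((X * Y) * (X * Y)) * Y⁻¹ := by group
      _ = X * (w * w) * (Y * w) := by rw [h3, hXi, hYi, mul_assoc X w w]
      _ = X * Y * w := by rw [hww, mul_one, mul_assoc]
  have hpick : ∀ s : Finset M22t, s.card < 16 → ∃ x ∈ F.U0, x ∉ s := by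
    intro s hs
    by_contra hno
    push Not at hno
    have := Set.ncard_le_ncard (show (F.U0 : Set M22t) ⊆ s from hno) (Finset.finite_toSet s)
    rw [Set.ncard_coe_finset, ← Nat.card_coe_set_eq] at this
    have h16 : Nat.card ↥(F.U0 : Set M22t) = 16 := F.card0
    omega
  obtain ⟨x, hx, hx'⟩ := hpick {1} (by simp)
  obtain ⟨y, hy, hy'⟩ := hpick {1, x} (lt_of_le_of_lt Finset.card_le_two (by norm_num))
  obtain ⟨v, hv, hv'⟩ := hpick {1, x, y, x * y} (lt_of_le_of_lt Finset.card_le_four (by norm_num))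
  simp only [Finset.mem_insert, Finset.mem_singleton, not_or] at hx' hy' hv'
  obtain ⟨X, hX, hX4⟩ := D.toJMod.exists_two_lift (hsqU x hx)
  obtain ⟨Y, hY, hY4⟩ := D.toJMod.exists_two_lift (hsqU y hy)
  obtain ⟨W, hW, hW4⟩ := D.toJMod.exists_two_lift (hsqU v hv)
  have hX' : D.π X = x := hX
  have hY' : D.π Y = y := hY
  have hW' : D.π W = v := hW
  have hxy : x * y ≠ 1 := fun h => hy'.2 (by
    rw [← inv_eq_of_mul_eq_one_right h, inv_eq_of_mul_eq_one_right (hsqU _ hx)])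
  have a1 := hnc (X := X) (Y := W) (hX' ▸ hx) (hW' ▸ hv) hX4 hW4 (hX' ▸ hx') (hW' ▸ hv'.1)
    (by rw [hX', hW']; exact fun h => hv'.2.1 h.symm)
  have a2 := hnc (X := Y) (Y := W) (hY' ▸ hy) (hW' ▸ hv) hY4 hW4 (hY' ▸ hy'.1) (hW' ▸ hv'.1)
    (by rw [hY', hW']; exact fun h => hv'.2.2.1 h.symm)
  have a3 := hnc (X := X * Y) (Y := W) (by rw [map_mul, hX', hY']; exact mul_mem hx hy) (hW' ▸ hv)
    (D.pow_four_mul hsqU (hX' ▸ hx) (hY' ▸ hy) hX4 hY4) hW4 (by rw [map_mul, hX', hY']; exact hxy) (hW' ▸ hv'.1)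
    (by rw [map_mul, hX', hY', hW']; exact fun h => hv'.2.2.2 h.symm)
  have a4 : W * (X * Y) = X * Y * W := by
    calc W * (X * Y) = (W * X) * Y := by group
      _ = (X * W) * (w * Y) := by rw [a1]; group
      _ = (X * W) * (Y * w) := by rw [(hwc Y).eq]
      _ = X * (W * Y) * w := by group
      _ = X * (Y * W * w) * w := by rw [a2]
      _ = X * Y * W * (w * w) := by group
      _ = X * Y * W := by rw [hww, mul_one]
  have : w = 1 := mul_eq_left.1 (a3.symm.trans a4)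
  exact z_ne D.hJ (by rw [← hwz, this]; rfl)

variable {F : MFacts M22t} (L : Lifts D.toJMod F)
include L

theorem lift_sq_good {U : Subgroup M22t} (hU : D.toJMod.Good U) {c : ↥(cC z P)} (hc : D.π c ∈ U)
    (h4 : c ^ 4 = 1) : c * c = 1 := by
  obtain ⟨g, -, e⟩ := D.toJMod.good_conj L hU (S := U) (IsPGroup.of_card (n := 4) (by rw [hU.1]; norm_num)) le_rfl
  obtain ⟨g, rfl⟩ := D.πsurj g
  have hm : D.π (g * c * g⁻¹) ∈ F.U0 := by
    rw [← e, map_mul, map_mul, map_inv]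
    exact ⟨D.π c, hc, rfl⟩
  have := D.lift_sq_U0 hm (D.toJMod.conj_four h4)
  rwa [show g * c * g⁻¹ * (g * c * g⁻¹) = g * (c * c) * g⁻¹ by group, conj_eq_one_iff] at this

theorem good_pre_sq {U : Subgroup M22t} (hU : D.toJMod.Good U) {a : ↥(cE z)} (ha : mk a ∈ D.toJMod.fix U) :
    (a : G) * a = 1 ∧ ∀ c : ↥(cC z P), D.π c ∈ U → c ^ 4 = 1 → (c : G) * a = a * c := by
  obtain ⟨f, hf⟩ : ∃ f, f = cEAut D.p D.pH a := ⟨_, rfl⟩
  have hfm : mk f ∈ D.toJMod.fix U := by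
    rw [hf, ← D.smul_p_mk]; exact D.toJMod.ω_mem_fix ha
  obtain ⟨f', hf'⟩ : ∃ f', f' = cEAut D.p D.pH f := ⟨_, rfl⟩
  have hf'm : mk f' ∈ D.toJMod.fix U := by
    rw [hf', ← D.smul_p_mk]; exact D.toJMod.ω_mem_fix hfm
  have hsum : mk (f' * f) = mk a := by
    rw [mk_mul, hf', ← D.smul_p_mk, hf, ← D.smul_p_mk]
    have h := D.toJMod.ω_sum (mk a)
    rw [add_assoc, add_eq_zero_iff_eq_neg, D.toJMod.neg_eq] at h
    conv_rhs => rw [h]
    exact add_comm _ _
  have hcomm : (f' : G) * f = f * f' := congrArg Subtype.val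
    (pair_eq_zero.1 ((D.toJMod.good_fix L hU).2 _ hf'm _ hfm)).eq
  have hf'e : (f' : G) = D.p * f * D.p⁻¹ := by rw [hf']; rfl
  have hzc : ∀ x : ↥(cE z), z * (x : G) = x * z := fun x =>
    (Subgroup.mem_centralizer_singleton_iff.1 (cE_le z x.2)).symm
  have hzp : z * D.p = D.p * z := D.comm_z D.pC
  have hprod : (f' : G) * f * ((f' : G) * f) = 1 := by
    rw [show (f' : G) * f * ((f' : G) * f) = f' * (f * f') * f by group, ← hcomm,
      show (f' : G) * (f' * f) * f = (f' * f') * (f * f) by group, hf'e,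
      show D.p * (f : G) * D.p⁻¹ * (D.p * f * D.p⁻¹) = D.p * (f * f) * D.p⁻¹ by group]
    rcases sq_or D.hJ f with h | h
    · rw [h]; group
    · rw [h, ← hzp, mul_inv_cancel_right, z_sq D.hJ]
  have hae : (a : G) = f' * f ∨ (a : G) = f' * f * z := by
    rcases (mk_eq D.hJ).1 hsum with h | h
    · exact Or.inl h
    · exact Or.inr h
  constructor
  · rcases hae with h | h
    · rw [h, hprod]
    · rw [h, show (f' : G) * f * z * (f' * f * z) = f' * f * (z * ((f' * f : ↥(cE z)) : G)) * z by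
        rw [Subgroup.coe_mul]; group, hzc, Subgroup.coe_mul,
        show (f' : G) * f * (f' * f * z) * z = f' * f * (f' * f) * (z * z) by group, hprod, z_sq D.hJ, one_mul]
  · intro c hc h4
    have hcf : (c : G) * f * (c : G)⁻¹ = f ∨ (c : G) * f * (c : G)⁻¹ = f * z := by
      have hv := hfm c hc h4
      rw [smul_mk] at hv
      rcases (mk_eq D.hJ).1 hv.symm with h | h
      exacts [Or.inl h, Or.inr h]
    have hcp : (c : G) * D.p * (c : G)⁻¹ = D.p := by rw [← D.comm_p c, mul_inv_cancel_right]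
    have hcf' : (c : G) * f' * (c : G)⁻¹ = D.p * ((c : G) * f * (c : G)⁻¹) * D.p⁻¹ := by
      rw [hf'e]
      conv_rhs => rw [← hcp]
      group
    have hfix : (c : G) * (f' * f) * (c : G)⁻¹ = f' * f := by
      rw [show (c : G) * (f' * f) * (c : G)⁻¹ = ((c : G) * f' * (c : G)⁻¹) * ((c : G) * f * (c : G)⁻¹) by group,
        hcf']
      rcases hcf with h | h
      · rw [h, hf'e]
      · rw [h, show D.p * ((f : G) * z) * D.p⁻¹ = D.p * f * (z * D.p⁻¹) by group,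
          show z * D.p⁻¹ = D.p⁻¹ * z from (Commute.inv_right hzp).eq, ← hzc f,
          show D.p * (f : G) * (D.p⁻¹ * z) * (z * f) = D.p * f * D.p⁻¹ * (z * z) * f by group, z_sq D.hJ, mul_one, hf'e]
    have hcz : (c : G) * z * (c : G)⁻¹ = z := by rw [← D.comm_z c, mul_inv_cancel_right]
    rw [← mul_inv_eq_iff_eq_mul]
    rcases hae with h | h
    · rw [h, hfix]
    · rw [h, show (c : G) * (f' * f * z) * (c : G)⁻¹ = (c : G) * (f' * f) * (c : G)⁻¹ * ((c : G) * z * (c : G)⁻¹) by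
        group, hfix, hcz]

/-- Membership in the elementary subgroup attached to `U`. -/
def InSpan (U : Subgroup M22t) (b : G) : Prop :=
  ∃ e : ↥(cE z), mk e ∈ D.toJMod.fix U ∧ ∃ c : ↥(cC z P), D.π c ∈ U ∧ c ^ 4 = 1 ∧ b = (e : G) * (c : G)

theorem exists_span : ∃ B : Subgroup G, B ≤ cH z ∧ (∀ b ∈ B, b * b = 1) ∧ Nat.card ↥B = 2 ^ 11 := by
  classical
  have hU := D.toJMod.good_U0 L
  have hsq : ∀ b, D.InSpan F.U0 b → b * b = 1 := by
    rintro b ⟨e, he, c, hc, h4, rfl⟩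
    obtain ⟨he2, hec⟩ := D.good_pre_sq L hU he
    have hcc : (c : G) * c = 1 := congrArg Subtype.val (D.lift_sq_U0 hc h4)
    rw [show (e : G) * c * (e * c) = e * (c * e) * c by group, hec c hc h4,
      show (e : G) * (e * c) * c = (e * e) * (c * c) by group, he2, hcc, one_mul]
  let B : Subgroup G :=
    { carrier := {b | D.InSpan F.U0 b}
      one_mem' := ⟨1, by rw [mk_one]; exact zero_mem _, 1, by rw [map_one]; exact one_mem _, one_pow 4, by simp⟩
      mul_mem' := by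
        rintro b b' ⟨e, he, c, hc, h4, rfl⟩ ⟨e', he', c', hc', h4', rfl⟩
        refine ⟨e * e', by rw [mk_mul]; exact add_mem he he', c * c', by rw [map_mul]; exact mul_mem hc hc',
          D.pow_four_mul F.sq0 hc hc' h4 h4', ?_⟩
        rw [Subgroup.coe_mul, Subgroup.coe_mul,
          show (e : G) * c * (e' * c') = e * (c * e') * c' by group, (D.good_pre_sq L hU he').2 c hc h4]
        group
      inv_mem' := fun {b} hb => by
        show D.InSpan F.U0 b⁻¹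
        rw [inv_eq_of_mul_eq_one_right (hsq b hb)]
        exact hb }
  refine ⟨B, ?_, hsq, ?_⟩
  · rintro b ⟨e, -, c, -, -, rfl⟩
    exact mul_mem (cE_le z e.2) c.2.1
  have hl : ∀ u : ↥F.U0, ∃ c : ↥(cC z P), D.π c = u ∧ c ^ 4 = 1 := fun u => D.toJMod.exists_two_lift (F.sq0 u u.2)
  choose l hl hl4 using hl
  let m : ↥(pre (D.toJMod.fix F.U0)) × ↥F.U0 → ↥B := fun q =>
    ⟨((q.1 : ↥(cE z)) : G) * (l q.2 : G), (q.1 : ↥(cE z)), q.1.2, l q.2, (hl q.2).symm ▸ q.2.2, hl4 q.2, rfl⟩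
  have hm : Function.Bijective m := by
    constructor
    · rintro ⟨a, u⟩ ⟨a', u'⟩ h
      have h' : ((a : ↥(cE z)) : G) * (l u : G) = ((a' : ↥(cE z)) : G) * (l u' : G) := congrArg Subtype.val h
      have hu : u = u' := by
        apply Subtype.ext
        rw [← hl u, ← hl u']
        apply m22_conj_injective
        rw [← D.φ_inner (h := ⟨_, mul_mem (cE_le z (a : ↥(cE z)).2) (l u).2.1⟩) (a : ↥(cE z)).2 (l u) rfl,
          ← D.φ_inner (h := ⟨_, mul_mem (cE_le z (a : ↥(cE z)).2) (l u).2.1⟩) (a' : ↥(cE z)).2 (l u') h']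
      subst hu
      exact Prod.ext (Subtype.ext (Subtype.ext (mul_right_cancel h'))) rfl
    · rintro ⟨b, e, he, c, hc, h4, rfl⟩
      obtain ⟨u, hu⟩ : ∃ u : ↥F.U0, u = ⟨D.π c, hc⟩ := ⟨_, rfl⟩
      have hπ : D.π (l u) = D.π c := by rw [hl u, hu]
      obtain ⟨k, hk⟩ : ∃ k, k = (l u)⁻¹ * c := ⟨_, rfl⟩
      have hk1 : D.π k = 1 := by rw [hk, map_mul, map_inv, hπ, inv_mul_cancel]
      have hk4 : k ^ 4 = 1 := by
        have := (D.toJMod.ker_comm k hk1 (l u)).symm.mul_pow 4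
        rwa [show l u * k = c by rw [hk, mul_inv_cancel_left], h4, hl4, one_mul, eq_comm] at this
      have hck : (c : G) = (l u : G) * (k : G) := by
        rw [← Subgroup.coe_mul, hk, mul_inv_cancel_left]
      rcases D.ker_two hk1 (D.ker_four hk1 hk4) with h | h
      · refine ⟨(⟨e, he⟩, u), Subtype.ext ?_⟩
        show (e : G) * (l u : G) = e * c
        rw [hck, h, mul_one]
      · refine ⟨(⟨e * ⟨z, z_mem D.hJ⟩, show mk (e * _) ∈ _ by
          rw [mk_mul, (mk_eq_zero D.hJ (e := ⟨z, z_mem D.hJ⟩)).2 (Or.inr rfl), add_zero]; exact he⟩, u), Subtype.ext ?_⟩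
        show (e : G) * z * (l u : G) = e * c
        rw [hck, h, mul_assoc, D.comm_z]
  rw [← Nat.card_eq_of_bijective m hm, Nat.card_prod, card_pre D.hJ, (D.toJMod.fix_U0 L).1, F.card0]
  norm_num

theorem le_span {B : Subgroup G} (hB : B ≤ cH z) (hsq : ∀ b ∈ B, b * b = 1) {U : Subgroup M22t}
    (hU : D.toJMod.Good U) (hin : ∀ b (hb : b ∈ B), ∃ u ∈ U, D.φ ⟨b, hB hb⟩ = MulAut.conj u)
    (hE : ∀ e : ↥(cE z), mk e ∈ D.toJMod.fix U → (e : G) ∈ B) {b : G} (hb : b ∈ B) : D.InSpan U b := by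
  obtain ⟨u, hu, hbu⟩ := hin b hb
  obtain ⟨e, he, c, hc, h | h⟩ := D.decomp ⟨b, hB hb⟩
  swap
  · exact absurd (hbu.symm ▸ ⟨u, rfl⟩ : D.φ ⟨b, hB hb⟩ ∈ Inn M22t) (D.φ_outer he ⟨c, hc⟩ h)
  have hb' : b = e * c := h
  have hπ : D.π ⟨c, hc⟩ = u := m22_conj_injective (by rw [← D.φ_inner he ⟨c, hc⟩ h, hbu])
  obtain ⟨c', hc', h4⟩ := D.toJMod.exists_two_lift (hU.2.1 u hu)
  have hc'' : D.π c' = u := hc'
  have hcU : D.π c' ∈ U := hc''.symm ▸ hu
  obtain ⟨k, hk⟩ : ∃ k, k = c'⁻¹ * (⟨c, hc⟩ : ↥(cC z P)) := ⟨_, rfl⟩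
  have hk1 : D.π k = 1 := by rw [hk, map_mul, map_inv, hπ, hc'', inv_mul_cancel]
  have hck : c = (c' : G) * (k : G) := by
    rw [← Subgroup.coe_mul, hk, mul_inv_cancel_left]
  obtain ⟨e', he', j, hb''⟩ : ∃ e' : G, e' ∈ cE z ∧ ∃ j : ℕ, b = e' * (c' : G) * D.p ^ j := by
    obtain ⟨j, hj | hj⟩ := (D.ker_iff k).1 hk1
    · exact ⟨e, he, j, by rw [hb', hck, hj, ← mul_assoc]⟩
    · refine ⟨e * z, mul_mem he (z_mem D.hJ), j, ?_⟩
      rw [hb', hck, hj, ← mul_assoc (c' : G), ← D.comm_z c']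
      group
  have hcc : (c' : G) * c' = 1 := congrArg Subtype.val (D.lift_sq_good L hU hcU h4)
  have hq : Commute (c' : G) (D.p ^ j) := (show Commute D.p (c' : G) from D.comm_p c').symm.pow_right j
  have hj0 : D.p ^ j = 1 := by
    refine D.sq_order j ?_
    obtain ⟨q, hqd⟩ : ∃ q, q = (c' : G) * D.p ^ j := ⟨_, rfl⟩
    have hqq : q * q = D.p ^ (2 * j) := by
      rw [hqd, mul_assoc, ← mul_assoc (D.p ^ j), ← hq.eq, mul_assoc (c' : G), ← mul_assoc, hcc, one_mul,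
        ← pow_add, two_mul]
    have h2 := hsq b hb
    rw [hb'', mul_assoc e' (c' : G), ← hqd] at h2
    have : D.p ^ (2 * j) = (e' * (q * e' * q⁻¹))⁻¹ := by
      refine eq_inv_of_mul_eq_one_right ?_
      rw [← hqq, ← h2]; group
    rw [this]
    refine inv_mem (mul_mem he' (cE_conj ?_ he'))
    rw [hqd]; exact mul_mem c'.2.1 (pow_mem D.pH j)
  rw [hj0, mul_one] at hb''
  refine ⟨⟨e', he'⟩, ?_, c', hcU, h4, hb''⟩
  obtain ⟨hfc, hfiso⟩ := D.toJMod.good_fix L hU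
  rw [← D.toJMod.perp_self hfc hfiso]
  intro s hs
  obtain ⟨f, rfl⟩ := mk_surjective s
  refine pair_eq_zero.2 (Subtype.ext ?_)
  show e' * (f : G) = f * e'
  have h1 : b * (f : G) = f * b := comm_of_sq_all hsq hb (hE f hs)
  rw [hb'', mul_assoc, (D.good_pre_sq L hU hs).2 c' hcU h4, ← mul_assoc, ← mul_assoc] at h1
  exact mul_right_cancel h1

theorem unique {B B' : Subgroup G} (hB : B ≤ cH z) (hB' : B' ≤ cH z) (hsq : ∀ b ∈ B, b * b = 1)
    (hsq' : ∀ b ∈ B', b * b = 1) (hc : Nat.card ↥B = 2 ^ 11) (hc' : Nat.card ↥B' = 2 ^ 11) {T : Subgroup G}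
    (hT : IsPGroup 2 ↥T) (hTH : T ≤ cH z) (hle : B ≤ T) (hle' : B' ≤ T) : B = B' := by
  obtain ⟨U, hU, hin, hout, hE⟩ := D.key L hB hsq hc
  obtain ⟨U', hU', hin', hout', hE'⟩ := D.key L hB' hsq' hc'
  obtain ⟨S, hS⟩ : ∃ S, S = ((T.subgroupOf (cH z)).map D.φ).comap (MulAut.conj : M22t →* MulAut M22t) := ⟨_, rfl⟩
  have hS2 : IsPGroup 2 ↥S := by
    rw [hS]
    exact IsPGroup.comap_of_injective ((hT.of_equiv (Subgroup.subgroupOfEquivOfLe hTH).symm).map D.φ) _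
      m22_conj_injective
  have hUS : U ≤ S := fun u hu => by
    obtain ⟨b, hb, hbu⟩ := hout u hu
    rw [hS]; exact ⟨⟨b, hB hb⟩, hle hb, hbu⟩
  have hUS' : U' ≤ S := fun u hu => by
    obtain ⟨b, hb, hbu⟩ := hout' u hu
    rw [hS]; exact ⟨⟨b, hB' hb⟩, hle' hb, hbu⟩
  obtain rfl := D.toJMod.good_unique L hU hU' hS2 hUS hUS'
  refine Subgroup.eq_of_le_of_card_ge (fun b hb => ?_) (by omega)
  obtain ⟨e, he, c, hcU, h4, rfl⟩ := D.le_span L hB hsq hU hin hE hb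
  obtain ⟨b₂, hb₂, hb₂u⟩ := hout' _ hcU
  obtain ⟨e₂, he₂, c₂, hc₂U, h4₂, rfl⟩ := D.le_span L hB' hsq' hU' hin' hE' hb₂
  have hπ : D.π c₂ = D.π c := m22_conj_injective (by
    rw [← D.φ_inner (h := ⟨_, hB' hb₂⟩) e₂.2 c₂ rfl]; exact hb₂u)
  have hc₂B : (c₂ : G) ∈ B' := by
    have := mul_mem (inv_mem (hE' e₂ he₂)) hb₂
    rwa [inv_mul_cancel_left] at this
  obtain ⟨k, hk⟩ : ∃ k, k = c₂⁻¹ * c := ⟨_, rfl⟩
  have hk1 : D.π k = 1 := by rw [hk, map_mul, map_inv, hπ, inv_mul_cancel]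
  have hk4 : k ^ 4 = 1 := by
    have := (D.toJMod.ker_comm k hk1 c₂).symm.mul_pow 4
    rwa [show c₂ * k = c by rw [hk, mul_inv_cancel_left], h4, h4₂, one_mul, eq_comm] at this
  have hkB : (k : G) ∈ B' := by
    rcases D.ker_two hk1 (D.ker_four hk1 hk4) with h | h
    · rw [h]; exact one_mem _
    · rw [h]
      exact hE' ⟨z, z_mem D.hJ⟩ (by rw [(mk_eq_zero D.hJ).2 (Or.inr rfl)]; exact zero_mem _)
  have hce : (c : G) = (c₂ : G) * (k : G) := by rw [← Subgroup.coe_mul, hk, mul_inv_cancel_left]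
  rw [hce]
  exact mul_mem (hE' e he) (mul_mem hc₂B hkB)

end HData

theorem exists_unique_elementary {G : Type*} [Group G] [Finite G] (hG : IsOfJankoFourType G) (T : Sylow 2 G) :
    ∃! V : Subgroup G, V ≤ (T : Subgroup G) ∧ Cfsg.IsElementaryAbelian 2 V ∧ Nat.card ↥V = 2 ^ 11 := by
  classical
  obtain ⟨z, P, hJ⟩ := hG
  obtain ⟨D⟩ := exists_hData hJ
  obtain ⟨F⟩ := exists_mFacts
  obtain ⟨L⟩ := D.toJMod.exists_lifts F
  obtain ⟨B, hB, hsq, hc⟩ := D.exists_span L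
  have : Fact (Nat.Prime 2) := ⟨Nat.prime_two⟩
  have hB2 : IsPGroup 2 ↥B := IsPGroup.of_card hc
  have hE2 : IsPGroup 2 ↥(cE z) := IsPGroup.of_card (cardE hJ)
  have hnorm : B ≤ Subgroup.normalizer (cE z : Set G) := by
    intro b hb
    rw [Subgroup.mem_normalizer_iff]
    intro x
    refine ⟨fun hx => cE_conj (hB hb) hx, fun hx => ?_⟩
    have := cE_conj (inv_mem (hB hb)) hx
    rwa [show b⁻¹ * (b * x * b⁻¹) * b⁻¹⁻¹ = x by group] at this
  obtain ⟨T₁, hT₁⟩ := (hB2.to_sup_of_normal_right' hE2 hnorm).exists_le_sylow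
  have hBT : B ≤ (T₁ : Subgroup G) := le_sup_left.trans hT₁
  have hET : cE z ≤ (T₁ : Subgroup G) := le_sup_right.trans hT₁
  have hzT : z ∈ (T₁ : Subgroup G) := hET (z_mem hJ)
  have hTH : (T₁ : Subgroup G) ≤ cH z := by
    have hnt : Nontrivial ↥(T₁ : Subgroup G) :=
      ⟨⟨z, hzT⟩, 1, fun h => z_ne hJ (congrArg Subtype.val h)⟩
    have := T₁.2.center_nontrivial
    obtain ⟨⟨y, hy⟩, hy1⟩ := exists_ne (1 : ↥(Subgroup.center ↥(T₁ : Subgroup G)))
    have hcomm : ∀ x ∈ (T₁ : Subgroup G), x * (y : G) = (y : G) * x := fun x hx =>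
      congrArg Subtype.val (Subgroup.mem_center_iff.1 hy ⟨x, hx⟩)
    have hyH : (y : G) ∈ cH z := Subgroup.mem_centralizer_singleton_iff.2 (hcomm z hzT).symm
    have hyE : (y : G) ∈ cE z := self_cent hJ ⟨hyH, Subgroup.mem_centralizer_iff.2 fun x hx => hcomm x (hET hx)⟩
    have hyc : (⟨(y : G), hyE⟩ : ↥(cE z)) ∈ Subgroup.center ↥(cE z) :=
      Subgroup.mem_center_iff.2 fun x => Subtype.ext (hcomm x (hET x.2))
    rcases (center_iff hJ).1 hyc with h | h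
    · exact absurd (Subtype.ext (Subtype.ext h)) hy1
    · intro x hx
      have := hcomm x hx
      rw [show (y : G) = z from h] at this
      exact Subgroup.mem_centralizer_singleton_iff.2 this
  obtain ⟨g, hg⟩ := MulAction.exists_smul_eq G T₁ T
  have hmem : ∀ x, x ∈ (T : Subgroup G) ↔ g⁻¹ * x * g ∈ (T₁ : Subgroup G) := by
    intro x
    rw [← hg, Sylow.coe_subgroup_smul]
    constructor
    · rintro ⟨w, hw, rfl⟩
      show g⁻¹ * (g * w * g⁻¹) * g ∈ _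
      rwa [show g⁻¹ * (g * w * g⁻¹) * g = w by group]
    · intro hx
      exact ⟨_, hx, show g * (g⁻¹ * x * g) * g⁻¹ = x by group⟩
  have hel : ∀ A : Subgroup G, (∀ a ∈ A, a * a = 1) ↔ Cfsg.IsElementaryAbelian 2 A := fun A =>
    ⟨fun h => ⟨⟨⟨fun p q => Subtype.ext (comm_of_sq_all h p.2 q.2)⟩⟩, fun a ha => by rw [pow_two]; exact h a ha⟩,
      fun h a ha => by rw [← pow_two]; exact h.2 a ha⟩
  refine ⟨B.map (MulAut.conj g).toMonoidHom, ⟨?_, ?_, ?_⟩, ?_⟩
  · rintro _ ⟨b, hb, rfl⟩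
    rw [hmem]
    show g⁻¹ * (g * b * g⁻¹) * g ∈ _
    rw [show g⁻¹ * (g * b * g⁻¹) * g = b by group]
    exact hBT hb
  · rw [← hel]
    rintro _ ⟨b, hb, rfl⟩
    rw [← map_mul, hsq b hb, map_one]
  · rw [← Nat.card_congr (Subgroup.equivMapOfInjective B _ (MulAut.conj g).injective).toEquiv, hc]
  · rintro V ⟨hVT, hV, hVc⟩
    rw [← hel] at hV
    have hle : V.map (MulAut.conj g⁻¹).toMonoidHom ≤ (T₁ : Subgroup G) := by
      rintro _ ⟨v, hv, rfl⟩
      have := (hmem v).1 (hVT hv)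
      simpa using this
    have := D.unique L (B := V.map (MulAut.conj g⁻¹).toMonoidHom) (hle.trans hTH) hB
      (by rintro _ ⟨v, hv, rfl⟩; rw [← map_mul, hV v hv, map_one]) hsq
      (by rw [← Nat.card_congr (Subgroup.equivMapOfInjective V _ (MulAut.conj g⁻¹).injective).toEquiv, hVc]) hc
      T₁.2 hTH hle hBT
    rw [← this, Subgroup.map_map]
    convert (Subgroup.map_id V).symm using 2
    ext x
    simp [mul_assoc]

end Cfsg.Agent.Lib.J4Type19
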