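import Cfsg.Agent.Lib.J4Type19.Invol

/-!
# The isotropic spaces fixed by elementary subgroups of order 16 of M22
-/

set_option autoImplicit false

namespace Cfsg.Agent.Lib.J4Type19

variable {C V M : Type*} [Group C] [AddCommGroup V] [DistribMulAction C V] [Group M]

/-- Image of a subgroup of vectors under an element. -/
def moveSub (g : C) (S : AddSubgroup V) : AddSubgroup V := S.map (DistribSMul.toAddMonoidHom V g)

theorem mem_moveSub {g : C} {S : AddSubgroup V} {v : V} : v ∈ moveSub g S ↔ ∃ w ∈ S, g • w = v :=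
  AddSubgroup.mem_map

theorem card_moveSub (g : C) (S : AddSubgroup V) : Nat.card ↥(moveSub g S) = Nat.card ↥S :=
  (Nat.card_congr (AddSubgroup.equivMapOfInjective S _ (MulAction.injective g)).toEquiv).symm

theorem moveSub_mul (g g' : C) (S : AddSubgroup V) : moveSub (g * g') S = moveSub g (moveSub g' S) := by
  ext v
  simp only [mem_moveSub]
  constructor
  · rintro ⟨w, hw, rfl⟩; exact ⟨g' • w, ⟨w, hw, rfl⟩, (mul_smul _ _ _).symm⟩
  · rintro ⟨_, ⟨w, hw, rfl⟩, rfl⟩; exact ⟨w, hw, mul_smul _ _ _⟩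

theorem moveSub_injective (g : C) : Function.Injective (moveSub (V := V) g) :=
  AddSubgroup.map_injective (MulAction.injective g)

namespace JMod

variable (J : JMod C V M)
include J

theorem mem_perp {S : AddSubgroup V} {v : V} : v ∈ perpOf J.β S ↔ ∀ s ∈ S, J.β v s = 0 := Iff.rfl

theorem eq_of_card {S T : AddSubgroup V} (h : S ≤ T) (hc : Nat.card ↥T ≤ Nat.card ↥S) : S = T := by
  have := J.finiteV
  exact AddSubgroup.eq_of_le_of_card_ge h hc

theorem card_perp_of {S : AddSubgroup V} {a b : ℕ} (hab : a + b = 12) (hS : Nat.card ↥S = 2 ^ a) :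
    Nat.card ↥(perpOf J.β S) = 2 ^ b := by
  have h := J.perp S
  rw [hS, ← hab, pow_add] at h
  exact Nat.eq_of_mul_eq_mul_left (by positivity) h

theorem perp_self {D : AddSubgroup V} (hD : Nat.card ↥D = 2 ^ 6) (hiso : ∀ u ∈ D, ∀ v ∈ D, J.β u v = 0) :
    perpOf J.β D = D :=
  (J.eq_of_card (show D ≤ perpOf J.β D from fun u hu v hv => hiso u hu v hv) (by rw [J.card_perp_of (a := 6) (b := 6) rfl hD, hD])).symm

theorem perp_invariant {S : AddSubgroup V} {g : C} (h : ∀ v ∈ S, g⁻¹ • v ∈ S) {v : V} (hv : v ∈ perpOf J.β S) :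
    g • v ∈ perpOf J.β S := fun s hs => by
  rw [← J.inv g⁻¹, inv_smul_smul]
  exact hv _ (h s hs)

theorem ωinv_smul {S : AddSubgroup V} (h : ∀ v ∈ S, J.ω • v ∈ S) : ∀ v ∈ S, J.ω⁻¹ • v ∈ S := fun v hv => by
  rw [show J.ω⁻¹ = J.ω ^ 2 from inv_eq_of_mul_eq_one_right (by rw [← pow_succ', J.ω3]), pow_two, mul_smul]
  exact h _ (h _ hv)

theorem moveSub_ωinv {S : AddSubgroup V} (h : ∀ v ∈ S, J.ω • v ∈ S) (g : C) :
    ∀ v ∈ moveSub g S, J.ω • v ∈ moveSub g S := by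
  intro v hv
  obtain ⟨w, hw, rfl⟩ := mem_moveSub.1 hv
  exact mem_moveSub.2 ⟨J.ω • w, h w hw, (J.ω_comm g w).symm⟩

theorem moveSub_iso {S : AddSubgroup V} (h : ∀ u ∈ S, ∀ v ∈ S, J.β u v = 0) (g : C) :
    ∀ u ∈ moveSub g S, ∀ v ∈ moveSub g S, J.β u v = 0 := by
  intro u hu v hv
  obtain ⟨u', hu', rfl⟩ := mem_moveSub.1 hu
  obtain ⟨v', hv', rfl⟩ := mem_moveSub.1 hv
  rw [J.inv]; exact h _ hu' _ hv'

theorem ker_mem {k : C} (hk : J.π k = 1) {S : AddSubgroup V} (h : ∀ v ∈ S, J.ω • v ∈ S) {v : V} (hv : v ∈ S) :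
    k • v ∈ S := by
  obtain ⟨j, hj⟩ := J.ker_act k hk
  rw [hj]
  clear hj
  induction j generalizing v with
  | zero => simpa using hv
  | succ j ih => rw [pow_succ, mul_smul]; exact ih (h v hv)

theorem moveSub_eq_of_ker {k : C} (hk : J.π k = 1) {S : AddSubgroup V} (h : ∀ v ∈ S, J.ω • v ∈ S) :
    moveSub k S = S :=
  J.eq_of_card (fun v hv => by obtain ⟨w, hw, rfl⟩ := mem_moveSub.1 hv; exact J.ker_mem hk h hw)
    (card_moveSub k S).ge

theorem fix_le_fixElt {U : Subgroup M} {c : C} (hc : J.π c ∈ U) (h4 : c ^ 4 = 1) : J.fix U ≤ fixElt c :=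
  fun _ hv => hv c hc h4

theorem fixElt_ω (c : C) : ∀ v ∈ fixElt (V := V) c, J.ω • v ∈ fixElt (V := V) c := fun v hv => by
  show c • J.ω • v = J.ω • v
  rw [← J.ω_comm, show c • v = v from hv]

theorem conj_four {c g : C} (hc : c ^ 4 = 1) : (g * c * g⁻¹) ^ 4 = 1 := by
  rw [conj_pow, hc, mul_one, mul_inv_cancel]

theorem fixElt_move {c c' g : C} (h : J.π c' = J.π g * J.π c * (J.π g)⁻¹) (hc : c ^ 4 = 1) (hc' : c' ^ 4 = 1) :
    fixElt c' = moveSub g (fixElt (V := V) c) := by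
  have key : ∀ v : V, c' • v = g • c • g⁻¹ • v := fun v => by
    rw [J.lift_smul_eq (c' := g * c * g⁻¹) (by simp [h]) hc' (J.conj_four hc), mul_smul, mul_smul]
  ext v
  rw [mem_moveSub]
  constructor
  · intro hv
    refine ⟨g⁻¹ • v, ?_, smul_inv_smul g v⟩
    have : c' • v = v := hv
    rw [key] at this
    exact (eq_inv_smul_iff.2 this : c • g⁻¹ • v = g⁻¹ • v)
  · rintro ⟨w, hw, rfl⟩
    show c' • g • w = g • w
    rw [key, inv_smul_smul, show c • w = w from hw]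

theorem fixElt_invariant {c g : C} (hg : Commute (J.π g) (J.π c)) (hc : c ^ 4 = 1) :
    moveSub g (fixElt (V := V) c) = fixElt c :=
  (J.fixElt_move (by rw [hg.eq, mul_inv_cancel_right]) hc hc).symm

variable {F : MFacts M} (L : Lifts J F) [Finite M]
include L

theorem card_fixElt {c : C} (h2 : J.π c * J.π c = 1) (h1 : J.π c ≠ 1) (h4 : c ^ 4 = 1) :
    Nat.card ↥(fixElt (V := V) c) = 2 ^ 8 := by
  have hF : orderOf (F.y * F.y) = 2 := orderOf_eq_prime (by rw [pow_two, ← J.πi L, J.πi_sq L]) (J.y_sq_ne (F := F))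
  obtain ⟨g, hg⟩ := isConj_iff.1 (F.inv_conj _ (J.π c) hF (orderOf_eq_prime (by rw [pow_two, h2]) h1))
  obtain ⟨g, rfl⟩ := J.surj g
  rw [J.fixElt_move (c := L.y * L.y) (g := g) (by rw [J.πi L, hg]) (J.i4 L) h4, card_moveSub, J.card_fix_i L]

/-- The image of `c + 1`. -/
noncomputable def rng (c : C) : AddSubgroup V :=
  (DistribSMul.toAddMonoidHom V c + AddMonoidHom.id V).range

theorem perp_fixElt {c : C} (h2 : J.π c * J.π c = 1) (h1 : J.π c ≠ 1) (h4 : c ^ 4 = 1) :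
    rng (V := V) c = perpOf J.β (fixElt c) ∧ perpOf J.β (rng (V := V) c) = fixElt c ∧
      Nat.card ↥(rng (V := V) c) = 2 ^ 4 := by
  have hf := J.card_fixElt L h2 h1 h4
  set φ : V →+ V := DistribSMul.toAddMonoidHom V c + AddMonoidHom.id V with hφ
  have hker : φ.ker = fixElt c := by
    ext v
    show c • v + v = 0 ↔ c • v = v
    rw [add_eq_zero_iff_eq_neg, J.neg_eq]
  have hcard : Nat.card ↥(rng (V := V) c) = 2 ^ 4 := by
    have := φ.ker.card_mul_index
    rw [AddSubgroup.index_ker, hker, hf, J.cardV] at this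
    show Nat.card φ.range = _
    exact Nat.eq_of_mul_eq_mul_left (by norm_num : 0 < 2 ^ 8) (this.trans (by norm_num))
  have hle : rng (V := V) c ≤ perpOf J.β (fixElt c) := by
    rintro _ ⟨v, rfl⟩ w hw
    show J.β (c • v + v) w = 0
    have e : J.β (c • v) w = J.β v w := by
      conv_lhs => rw [← (show c • w = w from hw)]
      rw [J.inv]
    rw [map_add, AddMonoidHom.add_apply, e]
    exact (by decide : ∀ p : ZMod 2, p + p = 0) _
  have h1' := J.eq_of_card hle (by rw [J.card_perp_of (a := 8) (b := 4) rfl hf, hcard])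
  refine ⟨h1', (J.eq_of_card (show fixElt c ≤ perpOf J.β (rng (V := V) c) from fun w hw s hs => ?_) ?_).symm, hcard⟩
  · rw [J.symm]; exact hle hs w hw
  · rw [J.card_perp_of (a := 4) (b := 8) rfl hcard, hf]

/-- A nonzero subgroup invariant under the lifts of an elementary subgroup contains a fixed vector. -/
theorem exists_fixed {U : Subgroup M} (hU : ∀ x ∈ U, x * x = 1) {T : AddSubgroup V} (hT : T ≠ ⊥)
    (hinv : ∀ c, J.π c ∈ U → c ^ 4 = 1 → ∀ v ∈ T, c • v ∈ T) : ∃ v ∈ T, v ∈ J.fix U ∧ v ≠ 0 := by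
  classical
  have hcomm : ∀ {c c' : C}, J.π c ∈ U → J.π c' ∈ U → c ^ 4 = 1 → c' ^ 4 = 1 → ∀ v : V, c • c' • v = c' • c • v := by
    intro c c' hc hc' h4 h4' (v : V)
    have hcc : J.π c * J.π c' = J.π c' * J.π c := comm_of_sq_all hU hc hc'
    obtain ⟨k, hk⟩ : ∃ k, k = c'⁻¹ * c * c' * c⁻¹ := ⟨_, rfl⟩
    have hkk : J.π k = 1 := by
      rw [hk]; simp only [map_mul, map_inv]
      rw [mul_assoc (J.π c')⁻¹, hcc]; group
    have hk2 : k ^ 2 = 1 := by
      have hc2 : J.π (c ^ 2) = 1 := by rw [map_pow, pow_two, hU _ hc]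
      have e1 : c'⁻¹ * c * c' = k * c := by rw [hk]; group
      have e2 : (k * c) ^ 2 = c ^ 2 := by
        rw [← e1, show c'⁻¹ * c * c' = c'⁻¹ * c * c'⁻¹⁻¹ by rw [inv_inv], conj_pow, inv_inv,
          ← (J.ker_comm _ hc2 c'⁻¹).eq, inv_mul_cancel_right]
      rwa [(J.ker_comm _ hkk c).mul_pow, mul_eq_right] at e2
    have hk4 : k ^ 4 = 1 := by rw [show (4 : ℕ) = 2 * 2 from rfl, pow_mul, hk2, one_pow]
    have e : c * c' = c' * (k * c) := by rw [hk]; group
    rw [← mul_smul, e, mul_smul, mul_smul, J.ker_two_smul hkk hk4]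
  have := Fintype.ofFinite M
  suffices ∀ s : Finset M, (∀ u ∈ s, u ∈ U) → ∃ v ∈ T, v ≠ 0 ∧ ∀ c, J.π c ∈ s → c ^ 4 = 1 → c • v = v by
    obtain ⟨v, hv, hv0, hf⟩ := this (Finset.univ.filter (· ∈ U)) (fun u hu => (Finset.mem_filter.1 hu).2)
    exact ⟨v, hv, fun c hc h4 => hf c (Finset.mem_filter.2 ⟨Finset.mem_univ _, hc⟩) h4, hv0⟩
  intro s
  induction s using Finset.induction_on with
  | empty =>
    intro _
    obtain ⟨⟨v, hv⟩, hv0⟩ := exists_ne_zero_of_ne_bot hT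
    exact ⟨v, hv, fun h => hv0 (Subtype.ext h), fun c hc => absurd hc (Finset.notMem_empty _)⟩
  | @insert u s _ ih =>
    intro hs
    obtain ⟨v, hv, hv0, hf⟩ := ih fun x hx => hs x (Finset.mem_insert_of_mem hx)
    have hu := hs u (Finset.mem_insert_self u s)
    obtain ⟨c₀, hc₀, h4₀⟩ := J.exists_two_lift (hU u hu)
    have huse : ∀ w : V, c₀ • w = w → (∀ c, J.π c ∈ s → c ^ 4 = 1 → c • w = w) →
        ∀ c, J.π c ∈ insert u s → c ^ 4 = 1 → c • w = w := by
      intro w h0 hr c hc h4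
      rcases Finset.mem_insert.1 hc with hc | hc
      · rw [J.lift_smul_eq (hc.trans hc₀.symm) h4 h4₀, h0]
      · exact hr c hc h4
    by_cases hfix : c₀ • v = v
    · exact ⟨v, hv, hv0, huse v hfix hf⟩
    refine ⟨c₀ • v + v, add_mem (hinv c₀ (hc₀ ▸ hu) h4₀ v hv) hv, fun h => ?_, huse _ ?_ fun c hc h4 => ?_⟩
    · rw [add_eq_zero_iff_eq_neg, J.neg_eq] at h; exact hfix h
    · rw [smul_add, J.lift_sq_smul (by rw [hc₀]; exact hU u hu) h4₀, add_comm]
    · rw [smul_add, hf c hc h4, hcomm (hs _ (Finset.mem_insert_of_mem hc)) (hc₀ ▸ hu) h4 h4₀, hf c hc h4]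
where
  exists_ne_zero_of_ne_bot {T : AddSubgroup V} (h : T ≠ ⊥) : ∃ v : T, v ≠ 0 := by
    by_contra hno
    push Not at hno
    exact h ((AddSubgroup.eq_bot_iff_forall _).2 fun v hv => congrArg Subtype.val (hno ⟨v, hv⟩))

end JMod

end Cfsg.Agent.Lib.J4Type19
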