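import Cfsg.Agent.Lib.J4Type19.Planes

/-!
# Which elementary subgroups of order 16 fix a maximal isotropic space
-/

set_option autoImplicit false

namespace Cfsg.Agent.Lib.J4Type19

variable {C V M : Type*} [Group C] [AddCommGroup V] [DistribMulAction C V] [Group M]

theorem moveSub_one (S : AddSubgroup V) : moveSub (1 : C) S = S := by
  ext v
  simp [mem_moveSub]

namespace JMod

variable (J : JMod C V M)
include J

theorem perp_anti {S T : AddSubgroup V} (h : S ≤ T) : perpOf J.β T ≤ perpOf J.β S :=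
  fun _ hv s hs => hv s (h hs)

theorem moveSub_eq_of {S : AddSubgroup V} {g : C} (h : ∀ v ∈ S, g • v ∈ S) : moveSub g S = S :=
  J.eq_of_card (fun v hv => by obtain ⟨w, hw, rfl⟩ := mem_moveSub.1 hv; exact h w hw) (card_moveSub g S).ge

theorem inv_invariant {S : AddSubgroup V} {g : C} (h : ∀ v ∈ S, g • v ∈ S) : ∀ v ∈ S, g⁻¹ • v ∈ S := fun v hv => by
  rw [← J.moveSub_eq_of h] at hv
  obtain ⟨w, hw, rfl⟩ := mem_moveSub.1 hv
  rwa [inv_smul_smul]

theorem ne_bot_of_card {S : AddSubgroup V} {n : ℕ} (hn : 1 ≤ n) (h : Nat.card ↥S = 2 ^ n) : S ≠ ⊥ := by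
  rintro rfl
  rw [AddSubgroup.card_bot] at h
  exact absurd h.symm (Nat.one_lt_two_pow (by omega)).ne'

theorem four_le_card {S : AddSubgroup V} (hω : ∀ v ∈ S, J.ω • v ∈ S) {v : V} (hv : v ∈ S) (h0 : v ≠ 0) :
    4 ≤ Nat.card ↥S := by
  obtain ⟨e, -, he⟩ := J.card_pow S hω
  rcases e with _ | e
  · refine absurd ((AddSubgroup.eq_bot_iff_forall S).1 ?_ v hv) h0
    exact AddSubgroup.eq_bot_of_card_eq S (by simpa using he)
  · rw [he, pow_succ]
    exact Nat.le_mul_of_pos_left 4 (by positivity)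

theorem card_quad {S T : AddSubgroup V} (hω : ∀ v ∈ S, J.ω • v ∈ S) (hω' : ∀ v ∈ T, J.ω • v ∈ T) (h : S < T) :
    4 * Nat.card ↥S ≤ Nat.card ↥T := by
  have := J.finiteV
  have hlt : Nat.card ↥S < Nat.card ↥T := Set.Finite.card_lt_card (Set.toFinite _) h
  obtain ⟨a, -, ha⟩ := J.card_pow S hω
  obtain ⟨b, -, hb⟩ := J.card_pow T hω'
  rw [ha, hb] at hlt ⊢
  rw [← pow_succ']
  exact Nat.pow_le_pow_right (by norm_num) ((Nat.pow_lt_pow_iff_right (by norm_num)).1 hlt)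

variable {F : MFacts M} (L : Lifts J F)
include L

theorem eig_ω (k : ℕ) : ∀ v ∈ J.eig L.a k, J.ω • v ∈ J.eig L.a k := fun v hv => by
  show L.a • J.ω • v = J.ω ^ k • J.ω • v
  rw [← J.ω_comm, show L.a • v = _ from hv, ← mul_smul, ← mul_smul, ← pow_succ, ← pow_succ']

theorem card_six {S : AddSubgroup V} (hω : ∀ v ∈ S, J.ω • v ∈ S) (ha : ∀ v ∈ S, L.a • v ∈ S)
    (hb : ∀ v ∈ S, (L.y * L.a * L.y⁻¹) • v ∈ S) (hne : S ≠ ⊥) : ∃ e, 1 ≤ e ∧ Nat.card ↥S = 2 ^ (6 * e) := by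
  obtain ⟨e, -, he⟩ := J.card_pow (S ⊓ J.eig L.a 0) fun v hv => ⟨hω v hv.1, J.eig_ω L 0 v hv.2⟩
  have h := J.card_eq_cube L S hω ha hb
  rw [he, ← pow_mul, show (4 : ℕ) = 2 ^ 2 from rfl, ← pow_mul] at h
  refine ⟨e, Nat.pos_of_ne_zero ?_, by rw [h]; congr 1; ring⟩
  rintro rfl
  exact hne (AddSubgroup.eq_bot_of_card_eq S (by simpa using h))

variable [Finite M]

theorem fix_U0 : Nat.card ↥(J.fix F.U0) = 2 ^ 6 ∧ ∀ u ∈ J.fix F.U0, ∀ v ∈ J.fix F.U0, J.β u v = 0 := by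
  have := J.finiteV
  have ha : ∀ v ∈ J.fix F.U0, L.a • v ∈ J.fix F.U0 := fun v hv =>
    J.fix_invariant (fun x hx => by rw [L.πa]; exact F.na x hx) hv
  have hb : ∀ v ∈ J.fix F.U0, (L.y * L.a * L.y⁻¹) • v ∈ J.fix F.U0 := fun v hv =>
    J.fix_invariant (fun x hx => by rw [map_mul, map_mul, map_inv, L.πa, L.πy]; exact F.nb x hx) hv
  have hω : ∀ v ∈ J.fix F.U0, J.ω • v ∈ J.fix F.U0 := fun v hv => J.ω_mem_fix hv
  have hne : J.fix F.U0 ≠ ⊥ := by
    obtain ⟨v, -, hv, h0⟩ := J.exists_fixed L F.sq0 (T := (⊤ : AddSubgroup V))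
      (J.ne_bot_of_card (n := 12) (by norm_num) (by rw [AddSubgroup.card_top, J.cardV]))
      (fun _ _ _ _ _ => trivial)
    exact fun h => h0 (by simpa [h] using hv)
  obtain ⟨cf, hcf, h4⟩ := J.exists_two_lift (F.sq0 F.f F.f0)
  have hK : Nat.card ↥(fixElt (V := V) cf) = 2 ^ 8 :=
    J.card_fixElt L (by rw [hcf]; exact F.sq0 _ F.f0) (by rw [hcf]; exact F.f1) h4
  obtain ⟨e, he1, he⟩ := J.card_six L hω ha hb hne
  have hle : Nat.card ↥(J.fix F.U0) ≤ 2 ^ 8 :=
    hK ▸ AddSubgroup.card_le_of_le (J.fix_le_fixElt (by rw [hcf]; exact F.f0) h4)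
  rw [he] at hle
  obtain rfl : e = 1 := by
    have := (Nat.pow_le_pow_iff_right (by norm_num : 1 < 2)).1 hle
    omega
  rw [mul_one] at he
  refine ⟨he, ?_⟩
  set T := perpOf J.β (J.fix F.U0) with hTdef
  have hT : Nat.card ↥T = 2 ^ 6 := J.card_perp_of (a := 6) rfl he
  obtain ⟨v, hv, hv', h0⟩ := J.exists_fixed L F.sq0 (J.ne_bot_of_card (by norm_num) hT) fun c hc hc4 w hw =>
    J.perp_invariant (fun z hz => by
      rw [show c⁻¹ • z = z from inv_smul_eq_iff.2 (hz c hc hc4).symm]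
      exact hz) hw
  obtain ⟨e', he1', he'⟩ := J.card_six L (S := T ⊓ J.fix F.U0)
    (fun w hw => ⟨J.perp_invariant (J.inv_invariant hω) hw.1, hω w hw.2⟩)
    (fun w hw => ⟨J.perp_invariant (J.inv_invariant ha) hw.1, ha w hw.2⟩)
    (fun w hw => ⟨J.perp_invariant (J.inv_invariant hb) hw.1, hb w hw.2⟩)
    (fun h => h0 (by
      have : v ∈ T ⊓ J.fix F.U0 := ⟨hv, hv'⟩
      simpa [h] using this))
  have heq : T ⊓ J.fix F.U0 = J.fix F.U0 := J.eq_of_card inf_le_right (by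
    rw [he, he']; exact Nat.pow_le_pow_right (by norm_num) (by omega))
  intro u hu w hw
  exact ((heq.ge hu).1 : u ∈ T) w hw

omit L [Finite M] in
theorem beta_of_sum {v x : V} (hv : J.β v (J.ω • v) = 0) (hx : J.β x (J.ω • x) = 0)
    (h : J.β (v + x) (J.ω • (v + x)) = 0) : J.β v x = 0 := by
  simp only [smul_add, map_add, AddMonoidHom.add_apply, hv, hx, zero_add, add_zero] at h
  have e2 : J.β x (J.ω • v) = J.β v (J.ω • J.ω • x) := by
    rw [J.symm, ← J.inv J.ω v, J.ω3_smul]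
  have e3 : J.ω • x + J.ω • J.ω • x = x := by
    have h3 := J.ω_sum x
    rw [add_assoc, add_comm, add_eq_zero_iff_eq_neg, J.neg_eq] at h3
    exact h3
  rw [e2, add_comm, ← map_add, e3] at h
  exact h

omit L [Finite M] in
theorem four_impossible {K : AddSubgroup V} (hK : Nat.card ↥K = 2 ^ 8) (S : Fin 4 → AddSubgroup V)
    (hinj : Function.Injective S) (hω : ∀ i, ∀ v ∈ S i, J.ω • v ∈ S i) (hS : ∀ i, Nat.card ↥(S i) = 2 ^ 6)
    (hiso : ∀ i, ∀ u ∈ S i, ∀ v ∈ S i, J.β u v = 0) (hle : ∀ i, S i ≤ K) : False := by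
  classical
  have := J.finiteV
  obtain ⟨I, hI⟩ : ∃ I, I = perpOf J.β K := ⟨_, rfl⟩
  have hIc : Nat.card ↥I = 2 ^ 4 := hI ▸ J.card_perp_of (a := 8) rfl hK
  have hIle : ∀ i, I ≤ S i := fun i => by
    rw [hI, ← J.perp_self (hS i) (hiso i)]
    exact J.perp_anti (hle i)
  have hIω : ∀ v ∈ I, J.ω • v ∈ I := by
    intro v hv
    rw [hI] at hv ⊢
    intro s hs
    have h2 : J.ω • J.ω • s ∈ K := by
      have hKeq : ∀ w ∈ K, J.ω • w ∈ K := by
        intro w hw
        have h01 : S 0 ⊔ S 1 ≤ K := sup_le (hle 0) (hle 1)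
        have hω' : ∀ z ∈ S 0 ⊔ S 1, J.ω • z ∈ S 0 ⊔ S 1 := fun z hz => by
          obtain ⟨p, hp, q, hq, rfl⟩ := AddSubgroup.mem_sup.1 hz
          rw [smul_add]; exact AddSubgroup.add_mem_sup (hω 0 p hp) (hω 1 q hq)
        have hlt : S 0 < S 0 ⊔ S 1 := lt_of_le_of_ne le_sup_left fun e => (by decide : (1 : Fin 4) ≠ 0)
          (hinj (J.eq_of_card (e ▸ le_sup_right : S 1 ≤ S 0) (by rw [hS, hS])))
        have h4 := J.card_quad (hω 0) hω' hlt
        rw [hS] at h4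
        have heq : S 0 ⊔ S 1 = K := J.eq_of_card h01 (by rw [hK]; omega)
        exact heq.le (hω' w (heq.ge hw))
      exact hKeq _ (hKeq _ hs)
    have := hv _ h2
    rwa [← J.inv J.ω, J.ω3_smul] at this
  have hinf : ∀ i j, i ≠ j → S i ⊓ S j = I := fun i j hij => by
    refine (J.eq_of_card (le_inf (hIle i) (hIle j)) ?_).symm
    by_contra hlt
    have hlt' : S i ⊓ S j < S i := lt_of_le_of_ne inf_le_left fun e => hij (hinj
      (J.eq_of_card (inf_eq_left.1 e) (by rw [hS, hS])))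
    have h4 := J.card_quad (S := I) (T := S i ⊓ S j) hIω (fun v hv => ⟨hω i v hv.1, hω j v hv.2⟩)
      (lt_of_le_of_ne (le_inf (hIle i) (hIle j)) fun e => hlt (e ▸ le_rfl))
    have h5 := J.card_quad (S := S i ⊓ S j) (fun v hv => ⟨hω i v hv.1, hω j v hv.2⟩) (hω i) hlt'
    rw [hS] at h5; rw [hIc] at h4
    omega
  have hsum : ∀ i j, i ≠ j → ∀ w ∈ K, ∃ p ∈ S i, w + p ∈ S j := fun i j hij w hw => by
    have hlt : S i < S i ⊔ S j := lt_of_le_of_ne le_sup_left fun e => hij (hinj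
      (J.eq_of_card (e ▸ le_sup_right : S j ≤ S i) (by rw [hS, hS]))).symm
    have hω' : ∀ z ∈ S i ⊔ S j, J.ω • z ∈ S i ⊔ S j := fun z hz => by
      obtain ⟨p, hp, q, hq, rfl⟩ := AddSubgroup.mem_sup.1 hz
      rw [smul_add]; exact AddSubgroup.add_mem_sup (hω i p hp) (hω j q hq)
    have h4 := J.card_quad (hω i) hω' hlt
    rw [hS] at h4
    have heq : S i ⊔ S j = K := J.eq_of_card (sup_le (hle i) (hle j)) (by rw [hK]; omega)
    obtain ⟨p, hp, q, hq, rfl⟩ := AddSubgroup.mem_sup.1 (heq.ge hw)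
    exact ⟨p, hp, by rwa [add_right_comm, J.two, zero_add]⟩
  obtain ⟨v, hv, hvI⟩ : ∃ v ∈ S 0, v ∉ I := by
    by_contra hno
    push Not at hno
    have := AddSubgroup.card_le_of_le (show S 0 ≤ I from hno)
    rw [hS, hIc] at this
    norm_num at this
  have hnot : ∀ i, i ≠ 0 → v ∉ S i := fun i hi h => hvI ((hinf 0 i (Ne.symm hi)).le ⟨hv, h⟩)
  obtain ⟨x, hx, hvx⟩ := hsum 1 2 (by decide) v (hle 0 hv)
  obtain ⟨y, hy, hvy⟩ := hsum 1 3 (by decide) v (hle 0 hv)
  have hxI : x ∉ I := fun h => hnot 2 (by decide) (by simpa using sub_mem hvx (hIle 2 h))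
  have hyI : y ∉ I := fun h => hnot 3 (by decide) (by simpa using sub_mem hvy (hIle 3 h))
  have hxyI : x + y ∉ I := fun h => by
    have h3 : v + x ∈ S 3 := by
      have := add_mem hvy (hIle 3 h)
      rwa [show v + y + (x + y) = v + x + (y + y) by abel, J.two, add_zero] at this
    have := (hinf 2 3 (by decide)).le ⟨hvx, h3⟩
    exact hnot 1 (by decide) (by simpa using sub_mem (hIle 1 this) hx)
  have hbx : J.β v x = 0 := J.beta_of_sum (hiso 0 v hv _ (hω 0 v hv)) (hiso 1 x hx _ (hω 1 x hx))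
    (hiso 2 _ hvx _ (hω 2 _ hvx))
  have hby : J.β v y = 0 := J.beta_of_sum (hiso 0 v hv _ (hω 0 v hv)) (hiso 1 y hy _ (hω 1 y hy))
    (hiso 3 _ hvy _ (hω 3 _ hvy))
  obtain ⟨P, hP⟩ : ∃ P : AddSubgroup V, P = S 1 ⊓ (J.β v).ker := ⟨_, rfl⟩
  obtain ⟨g, hg⟩ : ∃ g : Fin 4 → V, g = ![0, x, y, x + y] := ⟨_, rfl⟩
  have hgm : ∀ k, g k ∈ P := by
    intro k
    rw [hP, hg]
    fin_cases k <;> simp [AddSubgroup.mem_inf, hx, hy, hbx, hby, add_mem hx hy]
  have hgI : ∀ k l, g k + g l ∈ I → k = l := by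
    intro k l h
    rw [hg] at h
    have r1 : x + (x + y) = y := by rw [← add_assoc, J.two, zero_add]
    have r2 : y + (x + y) = x := by rw [add_comm x, ← add_assoc, J.two, zero_add]
    have r3 : x + y + x = y := by rw [add_comm (x + y), r1]
    have r4 : x + y + y = x := by rw [add_comm (x + y), r2]
    fin_cases k <;> fin_cases l <;>
      simp [hxI, hyI, hxyI, r1, r2, r3, r4, add_comm y x] at h ⊢
  have hIP : I ≤ P := fun i hi => by
    rw [hP]; exact ⟨hIle 1 hi, hiso 0 v hv i (hIle 0 hi)⟩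
  have hcard : 2 ^ 6 ≤ Nat.card ↥P := by
    have := Nat.card_le_card_of_injective (fun q : ↥I × Fin 4 => (⟨(q.1 : V) + g q.2, add_mem (hIP q.1.2) (hgm q.2)⟩ : ↥P))
      (fun q q' h => by
        have h' : (q.1 : V) + g q.2 = (q'.1 : V) + g q'.2 := congrArg Subtype.val h
        have e : g q.2 + g q'.2 = (q.1 : V) + (q'.1 : V) := by
          calc g q.2 + g q'.2
              = ((q.1 : V) + g q.2) + ((q'.1 : V) + g q'.2) + ((q.1 : V) + q'.1) := by
                rw [show (q.1 : V) + g q.2 + ((q'.1 : V) + g q'.2) + ((q.1 : V) + q'.1)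
                    = g q.2 + g q'.2 + ((q.1 : V) + q.1) + ((q'.1 : V) + q'.1) by abel,
                  J.two, J.two, add_zero, add_zero]
            _ = (q.1 : V) + q'.1 := by rw [h', J.two, zero_add]
        have hk := hgI _ _ (e ▸ add_mem q.1.2 q'.1.2)
        refine Prod.ext (Subtype.ext ?_) hk
        rw [hk] at h'
        exact add_right_cancel h')
    rwa [Nat.card_prod, Nat.card_eq_fintype_card (α := Fin 4), Fintype.card_fin, hIc] at this
  have hPS : P = S 1 := J.eq_of_card (hP ▸ inf_le_left) (by rw [hS]; exact hcard)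
  refine hnot 1 (by decide) ?_
  rw [← J.perp_self (hS 1) (hiso 1)]
  intro w hw
  rw [← hPS, hP] at hw
  exact hw.2

omit L [Finite M] in
theorem all_invariant {S : AddSubgroup V} (hω : ∀ v ∈ S, J.ω • v ∈ S)
    (h : ∀ m ∈ ({F.n₁, F.n₂, F.c} : Set M), ∃ g, J.π g = m ∧ moveSub g S = S) :
    ∀ g : C, ∀ v ∈ S, g • v ∈ S := by
  let St : Subgroup C :=
    { carrier := {g | moveSub g S = S}
      one_mem' := moveSub_one S
      mul_mem' := fun {g g'} (hg : moveSub g S = S) (hg' : moveSub g' S = S) => by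
        show moveSub (g * g') S = S
        rw [moveSub_mul, hg', hg]
      inv_mem' := fun {g} (hg : moveSub g S = S) => by
        show moveSub g⁻¹ S = S
        conv_lhs => rw [← hg]
        rw [← moveSub_mul, inv_mul_cancel, moveSub_one] }
  have htop : St.map J.π = ⊤ := by
    refine top_unique (F.gen.ge.trans ((Subgroup.closure_le _).2 ?_))
    intro m hm
    obtain ⟨g, hg, hgS⟩ := h m hm
    exact ⟨g, hgS, hg⟩
  intro g v hv
  obtain ⟨g', hg', hgg⟩ := htop.ge (Subgroup.mem_top (J.π g))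
  have hk : J.π (g'⁻¹ * g) = 1 := by rw [map_mul, map_inv, hgg, inv_mul_cancel]
  have hmem : g ∈ St := by
    have := mul_mem hg' (show g'⁻¹ * g ∈ St from J.moveSub_eq_of_ker hk hω)
    rwa [mul_inv_cancel_left] at this
  exact (show moveSub g S = S from hmem).le (mem_moveSub.2 ⟨v, hv, rfl⟩)

theorem not_invariant {W : AddSubgroup V} (hW : Nat.card ↥W = 2 ^ 6) (hinv : ∀ g : C, ∀ v ∈ W, g • v ∈ W) :
    False := by
  classical
  have := J.finiteV
  let K0 : Subgroup C :=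
    { carrier := {g | ∀ v ∈ W, g • v = v}
      one_mem' := fun v _ => one_smul C v
      mul_mem' := fun {g g'} hg hg' v hv => by rw [mul_smul, hg' v hv, hg v hv]
      inv_mem' := fun {g} hg v hv => by rw [inv_smul_eq_iff, hg v hv] }
  have hK0 : K0.Normal := ⟨fun k hk g v hv => by
    rw [mul_smul, mul_smul, hk _ (hinv g⁻¹ v hv), smul_inv_smul]⟩
  have := F.simple
  rcases (hK0.map J.π J.surj).eq_bot_or_eq_top with h | h
  · have hω : ∀ v ∈ W, J.ω • v ∈ W := hinv J.ω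
    obtain ⟨T, hT⟩ : ∃ T : Set V → AddSubgroup V,
        T = fun s => AddSubgroup.closure (s ∪ (fun v => J.ω • v) '' s) := ⟨_, rfl⟩
    have hTω : ∀ s, ∀ v ∈ T s, J.ω • v ∈ T s := by
      intro s v hv
      rw [hT] at hv ⊢
      induction hv using AddSubgroup.closure_induction with
      | mem w hw =>
        rcases hw with hw | ⟨z, hz, rfl⟩
        · exact AddSubgroup.subset_closure (Or.inr ⟨w, hw, rfl⟩)
        · have e : J.ω • J.ω • z = z + J.ω • z := by
            have h3 := J.ω_sum z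
            rw [add_comm, add_eq_zero_iff_eq_neg, J.neg_eq] at h3
            exact h3
          show J.ω • J.ω • z ∈ _
          rw [e]
          exact add_mem (AddSubgroup.subset_closure (Or.inl hz)) (AddSubgroup.subset_closure (Or.inr ⟨z, hz, rfl⟩))
      | zero => rw [smul_zero]; exact zero_mem _
      | add p q _ _ hp hq => rw [smul_add]; exact add_mem hp hq
      | neg p _ hp => rw [smul_neg]; exact neg_mem hp
    have hTW : ∀ s : Set V, s ⊆ W → T s ≤ W := fun s hs => by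
      rw [hT]
      refine (AddSubgroup.closure_le _).2 (Set.union_subset hs ?_)
      rintro _ ⟨z, hz, rfl⟩
      exact hω z (hs hz)
    have hTmem : ∀ s : Set V, ∀ z ∈ s, z ∈ T s := fun s z hz => by
      rw [hT]; exact AddSubgroup.subset_closure (Or.inl hz)
    have hTmono : ∀ s s' : Set V, s ⊆ s' → T s ≤ T s' := fun s s' hs => by
      rw [hT]; exact AddSubgroup.closure_mono (Set.union_subset_union hs (Set.image_mono hs))
    have hgrow : ∀ s : Set V, s ⊆ W → Nat.card ↥(T s) < 2 ^ 6 →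
        ∃ z ∈ W, 4 * Nat.card ↥(T s) ≤ Nat.card ↥(T (insert z s)) := by
      intro s hs hc
      obtain ⟨z, hz, hzT⟩ : ∃ z ∈ W, z ∉ T s := by
        by_contra hno
        push Not at hno
        have := AddSubgroup.card_le_of_le (show W ≤ T s from hno)
        omega
      refine ⟨z, hz, J.card_quad (hTω _) (hTω _) (lt_of_le_of_ne (hTmono _ _ (Set.subset_insert z s)) fun e => hzT ?_)⟩
      rw [e]; exact hTmem _ z (Set.mem_insert z s)
    have h0 : Nat.card ↥(T ∅) = 1 := by rw [hT]; simp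
    obtain ⟨z1, hz1, h1⟩ := hgrow ∅ (Set.empty_subset _) (by rw [h0]; norm_num)
    rw [h0] at h1
    have hs1 : ({z1} : Set V) ⊆ W := by simpa using hz1
    obtain ⟨z2, hz2, h2⟩ : ∃ z ∈ W, 16 ≤ Nat.card ↥(T {z, z1}) := by
      rcases Nat.lt_or_ge (Nat.card ↥(T {z1})) (2 ^ 6) with hlt | hge
      · obtain ⟨z, hz, hle⟩ := hgrow {z1} hs1 hlt
        exact ⟨z, hz, by simp only [insert_empty_eq] at h1; omega⟩
      · exact ⟨z1, hz1, by rw [Set.pair_eq_singleton]; omega⟩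
    have hs2 : ({z2, z1} : Set V) ⊆ W := Set.insert_subset_iff.2 ⟨hz2, hs1⟩
    obtain ⟨z3, hz3, h3⟩ : ∃ z ∈ W, 64 ≤ Nat.card ↥(T {z, z2, z1}) := by
      rcases Nat.lt_or_ge (Nat.card ↥(T {z2, z1})) (2 ^ 6) with hlt | hge
      · obtain ⟨z, hz, hle⟩ := hgrow _ hs2 hlt
        exact ⟨z, hz, by omega⟩
      · exact ⟨z2, hz2, by rw [Set.insert_idem]; omega⟩
    have hgen : W ≤ T {z3, z2, z1} :=
      (J.eq_of_card (hTW _ (Set.insert_subset_iff.2 ⟨hz3, hs2⟩)) (by rw [hW]; omega)).ge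
    let σ : M → ↥W × ↥W × ↥W := fun m =>
      (⟨Function.surjInv J.surj m • z3, hinv _ _ hz3⟩, ⟨Function.surjInv J.surj m • z2, hinv _ _ hz2⟩,
        ⟨Function.surjInv J.surj m • z1, hinv _ _ hz1⟩)
    have hσ : Function.Injective σ := by
      intro m m' he
      simp only [σ, Prod.mk.injEq, Subtype.mk.injEq] at he
      obtain ⟨g, hg⟩ : ∃ g, g = Function.surjInv J.surj m := ⟨_, rfl⟩
      obtain ⟨g', hg'⟩ : ∃ g', g' = Function.surjInv J.surj m' := ⟨_, rfl⟩
      rw [← hg, ← hg'] at he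
      let Eq' : AddSubgroup V :=
        { carrier := {v | g • v = g' • v}
          zero_mem' := by simp
          add_mem' := fun {p q} (hp : g • p = _) (hq : g • q = _) => by
            show g • (p + q) = g' • (p + q); rw [smul_add, smul_add, hp, hq]
          neg_mem' := fun {p} (hp : g • p = _) => by
            show g • (-p) = g' • (-p); rw [smul_neg, smul_neg, hp] }
      have hEq : ∀ v ∈ T {z3, z2, z1}, g • v = g' • v := by
        intro v hv
        rw [hT] at hv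
        refine (AddSubgroup.closure_le Eq').2 ?_ hv
        refine Set.union_subset ?_ ?_
        · rintro z (rfl | rfl | rfl)
          exacts [he.1, he.2.1, he.2.2]
        · rintro _ ⟨z, hz, rfl⟩
          show g • J.ω • z = g' • J.ω • z
          rw [← J.ω_comm, ← J.ω_comm]
          rcases hz with rfl | rfl | rfl
          exacts [by rw [he.1], by rw [he.2.1], by rw [he.2.2]]
      have hmem : g'⁻¹ * g ∈ K0 := fun v hv => by
        rw [mul_smul, hEq v (hgen hv), inv_smul_smul]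
      have h1' : J.π (g'⁻¹ * g) = 1 := Subgroup.mem_bot.1 (h ▸ ⟨_, hmem, rfl⟩)
      rw [map_mul, map_inv, hg, hg', Function.surjInv_eq J.surj, Function.surjInv_eq J.surj,
        inv_mul_eq_one] at h1'
      exact h1'.symm
    have := Nat.card_le_card_of_injective σ hσ
    rw [Nat.card_prod, Nat.card_prod, hW, F.card] at this
    norm_num at this
  · obtain ⟨k, hk, hka⟩ := h.ge (Subgroup.mem_top F.a)
    have hker : J.π (k⁻¹ * L.a) = 1 := by rw [map_mul, map_inv, hka, L.πa, inv_mul_cancel]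
    obtain ⟨j, hj⟩ := J.ker_act _ hker
    have hav : ∀ v ∈ W, L.a • v = J.ω ^ j • v := fun v hv => by
      have e : L.a • v = k • J.ω ^ j • v := by rw [← hj, ← mul_smul, mul_inv_cancel_left]
      rw [e]
      exact hk _ (hinv _ v hv)
    refine J.ne_bot_of_card (by norm_num) hW ((AddSubgroup.eq_bot_iff_forall W).2 fun w hw => ?_)
    have key : J.ω ^ L.e • w = w := by
      obtain ⟨b, hb⟩ : ∃ b, b = L.y * L.a * L.y⁻¹ := ⟨_, rfl⟩
      obtain ⟨v, hv, rfl⟩ : ∃ v ∈ W, b • L.a • v = w :=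
        ⟨L.a⁻¹ • b⁻¹ • w, hinv _ _ (hinv _ _ hw), by simp⟩
      conv_rhs => rw [hav v hv, ← J.ωpow_comm, ← hav _ (hinv b v hv)]
      rw [← mul_smul L.a, hb, L.comm, mul_smul (J.ω ^ L.e), mul_smul (L.y * L.a * L.y⁻¹) L.a]
    refine J.ωfix w ?_
    have he := L.e_ne
    rcases (by omega : L.e % 3 = 1 ∨ L.e % 3 = 2) with e | e
    · rw [J.ωpow_congr (m := 1) e, pow_one] at key; exact key
    · rw [J.ωpow_congr (m := 2) e, pow_two, mul_smul] at key
      conv_lhs => rw [← key]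
      exact J.ω3_smul w

theorem not_iso_U2 {D : AddSubgroup V} (hD : D ≤ J.fix F.U2) (hc : Nat.card ↥D = 2 ^ 6)
    (hiso : ∀ u ∈ D, ∀ v ∈ D, J.β u v = 0) : False := by
  have := J.finiteV
  obtain ⟨cf, hcf, h4⟩ := J.exists_two_lift (F.sq0 F.f F.f0)
  obtain ⟨K, hKdef⟩ : ∃ K, K = fixElt (V := V) cf := ⟨_, rfl⟩
  have hK : Nat.card ↥K = 2 ^ 8 :=
    hKdef ▸ J.card_fixElt L (by rw [hcf]; exact F.sq0 _ F.f0) (by rw [hcf]; exact F.f1) h4
  have hWK : J.fix F.U2 ≤ K := hKdef ▸ J.fix_le_fixElt (by rw [hcf]; exact F.f2) h4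
  have h0K : J.fix F.U0 ≤ K := hKdef ▸ J.fix_le_fixElt (by rw [hcf]; exact F.f0) h4
  obtain ⟨g1, hg1⟩ := J.surj F.n₁
  obtain ⟨g2, hg2⟩ := J.surj F.n₂
  obtain ⟨gc, hgc⟩ := J.surj F.c
  have hcK : moveSub gc K = K := by
    rw [hKdef]
    exact J.fixElt_invariant (by rw [hgc, hcf]; exact F.cf) h4
  have hW1 : moveSub g1 (J.fix F.U2) = J.fix F.U2 :=
    J.moveSub_eq_of fun v hv => J.fix_invariant (fun x hx => by rw [hg1]; exact F.hn₁ x hx) hv
  have hW2 : moveSub g2 (J.fix F.U2) = J.fix F.U2 :=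
    J.moveSub_eq_of fun v hv => J.fix_invariant (fun x hx => by rw [hg2]; exact F.hn₂ x hx) hv
  have hgens : moveSub gc (J.fix F.U2) = J.fix F.U2 →
      ∀ m ∈ ({F.n₁, F.n₂, F.c} : Set M), ∃ g, J.π g = m ∧ moveSub g (J.fix F.U2) = J.fix F.U2 := by
    rintro h m (rfl | rfl | rfl)
    exacts [⟨g1, hg1, hW1⟩, ⟨g2, hg2, hW2⟩, ⟨gc, hgc, h⟩]
  have hω : ∀ v ∈ J.fix F.U2, J.ω • v ∈ J.fix F.U2 := fun v hv => J.ω_mem_fix hv
  obtain ⟨e, -, he⟩ := J.card_pow _ hω
  have hlo : 2 ^ 6 ≤ Nat.card ↥(J.fix F.U2) := hc ▸ AddSubgroup.card_le_of_le hD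
  have hhi : Nat.card ↥(J.fix F.U2) ≤ 2 ^ 8 := hK ▸ AddSubgroup.card_le_of_le hWK
  rw [he] at hlo hhi
  have he3 : 3 ≤ e := by
    by_contra hlt
    have := Nat.pow_le_pow_right (show 0 < 4 by norm_num) (show e ≤ 2 by omega)
    omega
  have he4 : e ≤ 4 := by
    by_contra hlt
    have := Nat.pow_le_pow_right (show 0 < 4 by norm_num) (show 5 ≤ e by omega)
    omega
  rcases (by omega : e = 3 ∨ e = 4) with rfl | rfl
  · -- a maximal isotropic space
    have hcW : Nat.card ↥(J.fix F.U2) = 2 ^ 6 := by rw [he]; norm_num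
    obtain rfl : D = J.fix F.U2 := J.eq_of_card hD (by rw [hc, hcW])
    obtain ⟨hc0, hiso0⟩ := J.fix_U0 L
    have hcc : moveSub gc (J.fix F.U2) = J.fix F.U2 := by
      by_contra hne
      have h3 : moveSub (gc * gc * gc) (J.fix F.U2) = J.fix F.U2 := J.moveSub_eq_of_ker (by
        rw [map_mul, map_mul, hgc, ← F.c3]; simp [pow_succ]) hω
      rw [moveSub_mul, moveSub_mul] at h3
      have hS0 : moveSub gc (J.fix F.U0) = J.fix F.U0 :=
        J.moveSub_eq_of fun v hv => J.fix_invariant (fun x hx => by rw [hgc]; exact F.nc x hx) hv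
      obtain ⟨W, hW⟩ : ∃ W, W = J.fix F.U2 := ⟨_, rfl⟩
      rw [← hW] at hne h3
      have hS0W : J.fix F.U0 ≠ W := fun h => hne (h ▸ hS0)
      have inj := moveSub_injective (V := V) gc
      have e1 : moveSub gc (moveSub gc W) ≠ W := fun h => hne (by rw [h] at h3; exact h3)
      have e2 : moveSub gc (moveSub gc W) ≠ moveSub gc W := fun h => hne (inj h)
      have e3 : J.fix F.U0 ≠ moveSub gc W := fun h => hS0W (inj (by rw [hS0, h]))
      have e4 : J.fix F.U0 ≠ moveSub gc (moveSub gc W) := fun h => e3 (inj (by rw [hS0, h]))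
      refine J.four_impossible hK ![J.fix F.U0, W, moveSub gc W, moveSub gc (moveSub gc W)] ?_ ?_ ?_ ?_ ?_
      · intro i j h
        fin_cases i <;> fin_cases j <;> simp at h ⊢ <;>
          first
            | exact hS0W h | exact hS0W h.symm | exact hne h | exact hne h.symm
            | exact e1 h | exact e1 h.symm | exact e2 h | exact e2 h.symm
            | exact e3 h | exact e3 h.symm | exact e4 h | exact e4 h.symm
      · intro i
        fin_cases i
        exacts [fun v hv => J.ω_mem_fix hv, hW ▸ hω, J.moveSub_ωinv (hW ▸ hω) _,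
          J.moveSub_ωinv (J.moveSub_ωinv (hW ▸ hω) _) _]
      · intro i
        fin_cases i <;> simp [card_moveSub, hW, hc0, hcW]
      · intro i
        fin_cases i
        exacts [hiso0, hW ▸ hiso, J.moveSub_iso (hW ▸ hiso) _, J.moveSub_iso (J.moveSub_iso (hW ▸ hiso) _) _]
      · intro i
        have hm : ∀ S : AddSubgroup V, S ≤ K → moveSub gc S ≤ K := fun S hS => hcK ▸ AddSubgroup.map_mono hS
        fin_cases i
        exacts [h0K, hW ▸ hWK, hm _ (hW ▸ hWK), hm _ (hm _ (hW ▸ hWK))]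
    exact J.not_invariant L hcW (J.all_invariant hω (hgens hcc))
  · -- the whole fixed space of an involution
    have heq : J.fix F.U2 = K := J.eq_of_card hWK (by rw [hK, he]; norm_num)
    have hall := J.all_invariant hω (hgens (by rw [heq]; exact hcK))
    obtain ⟨d, -, hd⟩ := J.card_six L hω (hall _) (hall _) (fun h => by
      rw [h, AddSubgroup.card_bot] at he; norm_num at he)
    rw [heq, hK] at hd
    have := Nat.pow_right_injective le_rfl hd
    omega

/-- An element of order two fixes no large space meeting its image under `ω` trivially. -/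
theorem card_sq {c : C} (h2 : J.π c * J.π c = 1) (h1 : J.π c ≠ 1) (h4 : c ^ 4 = 1) {D : AddSubgroup V}
    (hD : D ≤ fixElt c) (hdis : ∀ d ∈ D, J.ω • d ∈ D → d = 0) : Nat.card ↥D * Nat.card ↥D ≤ 2 ^ 8 := by
  have := J.finiteV
  rw [← Nat.card_prod, ← J.card_fixElt L h2 h1 h4]
  refine Nat.card_le_card_of_injective
    (fun q : ↥D × ↥D => (⟨(q.1 : V) + J.ω • (q.2 : V), add_mem (hD q.1.2) (J.fixElt_ω c _ (hD q.2.2))⟩ :
      ↥(fixElt (V := V) c))) fun q q' h => ?_
  have h' : (q.1 : V) + J.ω • (q.2 : V) = (q'.1 : V) + J.ω • (q'.2 : V) := congrArg Subtype.val h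
  have hs : J.ω • ((q.2 : V) - q'.2) = (q'.1 : V) - q.1 := by
    rw [smul_sub, sub_eq_sub_iff_add_eq_add, add_comm, h']
  have h0 := hdis _ (sub_mem q.2.2 q'.2.2) (hs ▸ sub_mem q'.1.2 q.1.2)
  rw [h0, smul_zero, eq_comm, sub_eq_zero] at hs
  exact Prod.ext (Subtype.ext hs.symm) (Subtype.ext (sub_eq_zero.1 h0))

/-- Elementary of order 16 and fixing a maximal isotropic space. -/
def Good (U : Subgroup M) : Prop :=
  Nat.card U = 16 ∧ (∀ x ∈ U, x * x = 1) ∧
    ∃ D : AddSubgroup V, D ≤ J.fix U ∧ Nat.card ↥D = 2 ^ 6 ∧ ∀ u ∈ D, ∀ v ∈ D, J.β u v = 0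

theorem good_U0 : J.Good F.U0 :=
  ⟨F.card0, F.sq0, J.fix F.U0, le_rfl, (J.fix_U0 L).1, (J.fix_U0 L).2⟩

theorem good_map {U : Subgroup M} (h : J.Good U) (g : C) :
    J.Good (U.map (MulAut.conj (J.π g)).toMonoidHom) := by
  obtain ⟨hc, hsq, D, hD, hDc, hiso⟩ := h
  refine ⟨?_, ?_, moveSub g D, ?_, by rw [card_moveSub, hDc], J.moveSub_iso hiso g⟩
  · rw [← hc]
    exact (Nat.card_congr (Subgroup.equivMapOfInjective U _ (MulAut.conj (J.π g)).injective).toEquiv).symm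
  · rintro _ ⟨x, hx, rfl⟩
    rw [← map_mul, hsq x hx, map_one]
  · intro v hv
    obtain ⟨w, hw, rfl⟩ := mem_moveSub.1 hv
    refine J.mem_fix_smul (U := U) ?_ (hD hw)
    rintro _ ⟨x, hx, rfl⟩
    simpa [mul_assoc] using hx

theorem good_in_P0 {U : Subgroup M} (h : J.Good U) (hle : U ≤ F.P0) : U = F.U0 := by
  obtain ⟨hc, hsq, D, hD, hDc, hiso⟩ := h
  rcases (F.small U hle hsq).2 hc with rfl | rfl
  · rfl
  · exact (J.not_iso_U2 L hD hDc hiso).elim

theorem good_conj {U S : Subgroup M} (h : J.Good U) (hS : IsPGroup 2 S) (hle : U ≤ S) :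
    ∃ g : M, (∀ s ∈ S, g * s * g⁻¹ ∈ F.P0) ∧ U.map (MulAut.conj g).toMonoidHom = F.U0 := by
  obtain ⟨g, hg⟩ := F.sylow S hS
  obtain ⟨c, rfl⟩ := J.surj g
  refine ⟨J.π c, hg, J.good_in_P0 L (J.good_map L h c) ?_⟩
  rintro _ ⟨x, hx, rfl⟩
  simpa using hg x (hle hx)

theorem good_unique {U U' S : Subgroup M} (h : J.Good U) (h' : J.Good U') (hS : IsPGroup 2 S)
    (hle : U ≤ S) (hle' : U' ≤ S) : U = U' := by
  obtain ⟨g, hg, e⟩ := J.good_conj L h hS hle
  obtain ⟨c, rfl⟩ := J.surj g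
  have e' : U'.map (MulAut.conj (J.π c)).toMonoidHom = F.U0 := by
    refine J.good_in_P0 L (J.good_map L h' c) ?_
    rintro _ ⟨x, hx, rfl⟩
    simpa using hg x (hle' hx)
  exact Subgroup.map_injective (MulAut.conj (J.π c)).injective (e.trans e'.symm)

theorem good_fix {U : Subgroup M} (h : J.Good U) :
    Nat.card ↥(J.fix U) = 2 ^ 6 ∧ ∀ u ∈ J.fix U, ∀ v ∈ J.fix U, J.β u v = 0 := by
  have hS : IsPGroup 2 U := IsPGroup.of_card (n := 4) (by rw [h.1]; norm_num)
  obtain ⟨g, -, e⟩ := J.good_conj L h hS le_rfl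
  obtain ⟨c, rfl⟩ := J.surj g
  have hx : ∀ x, x ∈ U ↔ J.π c * x * (J.π c)⁻¹ ∈ F.U0 := fun x => by
    rw [← e]
    constructor
    · exact fun hx => ⟨x, hx, rfl⟩
    · rintro ⟨z, hz, hzx⟩
      exact (MulAut.conj (J.π c)).injective hzx ▸ hz
  have hfix : J.fix U = moveSub c⁻¹ (J.fix F.U0) := by
    ext v
    rw [mem_moveSub]
    constructor
    · intro hv
      refine ⟨c • v, J.mem_fix_smul (U := U) (fun x hx0 => ?_) hv, inv_smul_smul c v⟩
      rw [hx]; simpa [mul_assoc] using hx0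
    · rintro ⟨w, hw, rfl⟩
      refine J.mem_fix_smul (U := F.U0) (fun x hx0 => ?_) hw
      rw [map_inv, inv_inv]
      exact (hx x).1 hx0
  rw [hfix, card_moveSub]
  exact ⟨(J.fix_U0 L).1, J.moveSub_iso (J.fix_U0 L).2 _⟩

end JMod

end Cfsg.Agent.Lib.J4Type19
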