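import Cfsg.Prelude.Def_JankoFourType
import Cfsg.Agent.Lib.ExtraTwoQ.Basic

/-!
# The symplectic space of the extraspecial subgroup
-/

set_option autoImplicit false

namespace Cfsg.Agent.Lib.J4Type19

open Cfsg

variable {G : Type*} [Group G]

/-- The centralizer of `z`. -/
abbrev cH (z : G) : Subgroup G := Subgroup.centralizer ({z} : Set G)

/-- The extraspecial subgroup. -/
abbrev cE (z : G) : Subgroup G := twoCoreOfCentralizer z

/-- The centralizer of `P` in the centralizer of `z`. -/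
abbrev cC (z : G) (P : Subgroup G) : Subgroup G := cH z ⊓ Subgroup.centralizer (P : Set G)

/-- The vector space. -/
abbrev cV (z : G) : Type _ := Additive (Abelianization ↥(cE z))

variable {z : G} {P : Subgroup G}

theorem cE_le (z : G) : cE z ≤ cH z := Subgroup.map_subtype_le _

theorem cE_conj {h e : G} (hh : h ∈ cH z) (he : e ∈ cE z) : h * e * h⁻¹ ∈ cE z := by
  obtain ⟨e', he', rfl⟩ := he
  have hn : (pCore 2 ↥(cH z)).Normal := Subgroup.sSup_normal _ fun _ h => h.1
  exact ⟨⟨h, hh⟩ * e' * ⟨h, hh⟩⁻¹, hn.conj_mem e' he' _, rfl⟩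

/-- Conjugation by an element of the centralizer. -/
def cEAut (h : G) (hh : h ∈ cH z) : ↥(cE z) →* ↥(cE z) where
  toFun e := ⟨h * (e : G) * h⁻¹, cE_conj hh e.2⟩
  map_one' := Subtype.ext (by simp)
  map_mul' x y := Subtype.ext (by simp [mul_assoc])

/-- The image in the vector space. -/
def mk (e : ↥(cE z)) : cV z := Additive.ofMul (Abelianization.of e)

theorem mk_surjective : Function.Surjective (mk (z := z)) := fun v =>
  (QuotientGroup.mk_surjective (Additive.toMul v)).imp fun _ h => congrArg Additive.ofMul h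

theorem mk_mul (e f : ↥(cE z)) : mk (e * f) = mk e + mk f := congrArg Additive.ofMul (map_mul Abelianization.of e f)

theorem mk_one : mk (1 : ↥(cE z)) = 0 := congrArg Additive.ofMul (map_one (Abelianization.of (G := ↥(cE z))))

instance : SMul ↥(cC z P) (cV z) :=
  ⟨fun c v => Additive.ofMul (Abelianization.map (cEAut (c : G) c.2.1) (Additive.toMul v))⟩

theorem smul_mk (c : ↥(cC z P)) (e : ↥(cE z)) : c • mk e = mk (cEAut (c : G) c.2.1 e) := rfl

instance : DistribMulAction ↥(cC z P) (cV z) where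
  one_smul v := by
    obtain ⟨e, rfl⟩ := mk_surjective v
    rw [smul_mk]; congr 1; apply Subtype.ext; simp [cEAut]
  mul_smul c d v := by
    obtain ⟨e, rfl⟩ := mk_surjective v
    rw [smul_mk, smul_mk, smul_mk]; congr 1; apply Subtype.ext; simp [cEAut, mul_assoc]
  smul_zero c := by
    rw [← mk_one, smul_mk, map_one]
  smul_add c u v := by
    obtain ⟨e, rfl⟩ := mk_surjective u
    obtain ⟨f, rfl⟩ := mk_surjective v
    rw [← mk_mul, smul_mk, map_mul, mk_mul]; rfl

section

variable (hJ : IsOfJankoFourTypeWith z P)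
include hJ

theorem hz : orderOf z = 2 := hJ.1

theorem hE : IsExtraspecial 2 ↥(cE z) := hJ.2.1

theorem cardE : Nat.card ↥(cE z) = 2 ^ 13 := hJ.2.2.1

theorem self_cent : cH z ⊓ Subgroup.centralizer (cE z : Set G) ≤ cE z := hJ.2.2.2.1

theorem cardP : Nat.card ↥P = 3 := hJ.2.2.2.2.2.1

theorem centE : cE z ⊓ Subgroup.centralizer (P : Set G) = Subgroup.zpowers z := hJ.2.2.2.2.2.2.1

theorem z_mem : z ∈ cE z := ((centE hJ).ge (Subgroup.mem_zpowers z)).1

theorem z_ne : z ≠ 1 := fun h => by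
  have := hz hJ; rw [h, orderOf_one] at this; omega

theorem z_sq : z * z = 1 := by
  rw [← pow_two, ← hz hJ, pow_orderOf_eq_one]

theorem mem_zpowers_z {x : G} (hx : x ∈ Subgroup.zpowers z) : x = 1 ∨ x = z := by
  obtain ⟨n, rfl⟩ := Subgroup.mem_zpowers_iff.1 hx
  rcases Int.even_or_odd n with ⟨k, rfl⟩ | ⟨k, rfl⟩
  · left; rw [← two_mul, zpow_mul, zpow_two, z_sq hJ, one_zpow]
  · right; rw [zpow_add, zpow_mul, zpow_two, z_sq hJ, one_zpow, one_mul, zpow_one]

theorem z_center : (⟨z, z_mem hJ⟩ : ↥(cE z)) ∈ Subgroup.center ↥(cE z) := by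
  rw [Subgroup.mem_center_iff]
  intro e
  exact Subtype.ext (Subgroup.mem_centralizer_singleton_iff.1 (cE_le z e.2))

theorem center_iff {e : ↥(cE z)} : e ∈ Subgroup.center ↥(cE z) ↔ (e : G) = 1 ∨ (e : G) = z := by
  constructor
  · intro he
    have : Finite ↥(cE z) := Nat.finite_of_card_ne_zero (by rw [cardE hJ]; norm_num)
    rcases ExtraTwoQ.center_eq_pair (Q := ↥(cE z)) (x := e) (hE hJ) (z_center hJ)
      (fun h => z_ne hJ (congrArg Subtype.val h)) he with h | h
    · exact Or.inl (by rw [h]; rfl)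
    · exact Or.inr (by rw [h])
  · rintro (h | h)
    · rw [show e = 1 from Subtype.ext h]; exact one_mem _
    · rw [show e = ⟨z, z_mem hJ⟩ from Subtype.ext h]; exact z_center hJ

theorem mk_eq_zero {e : ↥(cE z)} : mk e = 0 ↔ ((e : G) = 1 ∨ (e : G) = z) := by
  rw [← center_iff hJ, ← (hE hJ).1.2.2]
  exact (QuotientGroup.eq_one_iff e)

theorem mk_eq {e f : ↥(cE z)} : mk e = mk f ↔ ((f : G) = e ∨ (f : G) = e * z) := by
  have h0 : mk e = mk f ↔ mk (e⁻¹ * f) = 0 := by
    have h : mk e⁻¹ = - mk e := by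
      refine eq_neg_of_add_eq_zero_left ?_
      rw [← mk_mul, inv_mul_cancel, mk_one]
    rw [mk_mul, h, neg_add_eq_zero]
  rw [h0, mk_eq_zero hJ, Subgroup.coe_mul, Subgroup.coe_inv, inv_mul_eq_one, inv_mul_eq_iff_eq_mul, eq_comm]

theorem comm_or (e f : ↥(cE z)) : (e : G) * f * (e : G)⁻¹ * (f : G)⁻¹ = 1 ∨
    (e : G) * f * (e : G)⁻¹ * (f : G)⁻¹ = z :=
  (center_iff hJ).1 (ExtraTwoQ.comm_mem_center (hE hJ) e f)

theorem sq_or (e : ↥(cE z)) : (e : G) * e = 1 ∨ (e : G) * e = z := by
  have := (center_iff hJ).1 (ExtraTwoQ.sq_mem_center (hE hJ) e)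
  simpa [pow_two] using this

theorem cV_two (v : cV z) : v + v = 0 := by
  obtain ⟨e, rfl⟩ := mk_surjective v
  rw [← mk_mul, mk_eq_zero hJ]
  exact sq_or hJ e

end

open scoped Classical in
/-- The commutator pairing on the group. -/
noncomputable def pair (e f : ↥(cE z)) : ZMod 2 := if Commute e f then 0 else 1

theorem pair_self (e : ↥(cE z)) : pair e e = 0 := if_pos (Commute.refl e)

theorem pair_symm (e f : ↥(cE z)) : pair e f = pair f e := by
  classical
  exact if_congr ⟨fun h => h.symm, fun h => h.symm⟩ rfl rfl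

theorem pair_eq_zero {e f : ↥(cE z)} : pair e f = 0 ↔ Commute e f := by
  unfold pair
  split <;> simp_all

theorem pair_one_left (f : ↥(cE z)) : pair 1 f = 0 := if_pos (Commute.one_left f)

variable (hJ : IsOfJankoFourTypeWith z P)
include hJ

theorem pair_mul (e e' f : ↥(cE z)) : pair (e * e') f = pair e f + pair e' f := by
  have hz := fun g : ↥(cE z) => (Subgroup.mem_center_iff.1 (z_center hJ) g).symm
  obtain ⟨w, hw⟩ : ∃ w, w = (⟨z, z_mem hJ⟩ : ↥(cE z)) := ⟨_, rfl⟩
  rw [← hw] at hz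
  have hw1 : w ≠ 1 := fun h => z_ne hJ (by rw [hw] at h; exact congrArg Subtype.val h)
  have hww : w * w = 1 := hw ▸ Subtype.ext (z_sq hJ)
  have key : ∀ g : ↥(cE z), (Commute g f ∧ g * f = f * g) ∨ (¬ Commute g f ∧ g * f = w * (f * g)) := by
    intro g
    rcases comm_or hJ g f with h | h
    · left
      have : g * f = f * g := Subtype.ext (by
        rw [mul_inv_eq_one, mul_inv_eq_iff_eq_mul] at h; exact h)
      exact ⟨this, this⟩
    · right
      have h' : g * f = w * (f * g) := Subtype.ext (by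
        rw [mul_inv_eq_iff_eq_mul, mul_inv_eq_iff_eq_mul, mul_assoc] at h
        rw [hw]; exact h)
      exact ⟨fun hc => hw1 (mul_eq_right.1 (h'.symm.trans hc.eq)), h'⟩
  have hnot : ∀ g : ↥(cE z), g * f = w * (f * g) → ¬ Commute g f := fun g h hc =>
    hw1 (mul_eq_right.1 (h.symm.trans hc.eq))
  have e1 : ∀ p : ↥(cE z), e * (w * p) = w * (e * p) := fun p => by
    rw [← mul_assoc, ← hz e, mul_assoc]
  unfold pair
  rcases key e with ⟨c1, h1⟩ | ⟨c1, h1⟩ <;> rcases key e' with ⟨c2, h2⟩ | ⟨c2, h2⟩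
  · rw [if_pos c1, if_pos c2, if_pos (c1.mul_left c2)]; rfl
  · have h : e * e' * f = w * (f * (e * e')) := by
      rw [mul_assoc, h2, e1, ← mul_assoc e, h1, mul_assoc]
    rw [if_pos c1, if_neg c2, if_neg (hnot _ h)]; rfl
  · have h : e * e' * f = w * (f * (e * e')) := by
      rw [mul_assoc, h2, ← mul_assoc e, h1, mul_assoc, mul_assoc]
    rw [if_neg c1, if_pos c2, if_neg (hnot _ h)]; rfl
  · have h : e * e' * f = f * (e * e') := by
      rw [mul_assoc, h2, e1, ← mul_assoc e, h1]
      simp only [← mul_assoc, hww, one_mul]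
    rw [if_neg c1, if_neg c2, if_pos (show Commute (e * e') f from h)]; rfl

theorem pair_conj (c : ↥(cC z P)) (e f : ↥(cE z)) :
    pair (cEAut (c : G) c.2.1 e) (cEAut (c : G) c.2.1 f) = pair e f := by
  have hinj : Function.Injective (cEAut (z := z) (c : G) c.2.1) := fun p q h =>
    Subtype.ext (mul_left_cancel (mul_right_cancel (congrArg Subtype.val h : (c : G) * p * (c : G)⁻¹ = _)))
  have : Commute (cEAut (c : G) c.2.1 e) (cEAut (c : G) c.2.1 f) ↔ Commute e f :=
    ⟨fun h => hinj (by rw [map_mul, map_mul]; exact h.eq), fun h => h.map _⟩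
  classical
  exact if_congr this rfl rfl

/-- The pairing on the quotient. -/
noncomputable def form : cV z →+ cV z →+ ZMod 2 :=
  MonoidHom.toAdditiveLeft (Abelianization.lift
    { toFun := fun e => Multiplicative.ofAdd (MonoidHom.toAdditiveLeft (Abelianization.lift
        { toFun := fun f => Multiplicative.ofAdd (pair e f)
          map_one' := by rw [pair_symm, pair_one_left]; rfl
          map_mul' := fun f f' => by
            rw [pair_symm, pair_mul hJ, pair_symm f, pair_symm f']; rfl }))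
      map_one' := by
        refine congrArg Multiplicative.ofAdd (AddMonoidHom.ext fun v => ?_)
        obtain ⟨f, rfl⟩ := mk_surjective v
        exact pair_one_left f
      map_mul' := fun e e' => by
        refine congrArg Multiplicative.ofAdd (AddMonoidHom.ext fun v => ?_)
        obtain ⟨f, rfl⟩ := mk_surjective v
        exact pair_mul hJ e e' f })

theorem form_mk (e f : ↥(cE z)) : form hJ (mk e) (mk f) = pair e f := rfl

theorem form_inv (c : ↥(cC z P)) (u v : cV z) : form hJ (c • u) (c • v) = form hJ u v := by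
  obtain ⟨e, rfl⟩ := mk_surjective u
  obtain ⟨f, rfl⟩ := mk_surjective v
  rw [smul_mk, smul_mk, form_mk, form_mk, pair_conj hJ]

theorem form_alt (v : cV z) : form hJ v v = 0 := by
  obtain ⟨e, rfl⟩ := mk_surjective v
  rw [form_mk, pair_self]

variable [Finite G]

omit hJ in
/-- The preimage of a subgroup of vectors. -/
def pre (S : AddSubgroup (cV z)) : Subgroup ↥(cE z) where
  carrier := {e | mk e ∈ S}
  one_mem' := by show mk 1 ∈ S; rw [mk_one]; exact zero_mem S
  mul_mem' := fun {e f} (he : mk e ∈ S) (hf : mk f ∈ S) => by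
    show mk (e * f) ∈ S; rw [mk_mul]; exact add_mem he hf
  inv_mem' := fun {e} (he : mk e ∈ S) => by
    have h := congrArg (fun x => x) (mk_mul e⁻¹ e)
    simp only [inv_mul_cancel, mk_one] at h
    show mk e⁻¹ ∈ S
    rw [eq_neg_of_add_eq_zero_left h.symm]
    exact neg_mem he

omit hJ [Finite G] in
theorem mem_pre {S : AddSubgroup (cV z)} {e : ↥(cE z)} : e ∈ pre S ↔ mk e ∈ S := Iff.rfl

omit [Finite G] in
theorem center_le_pre (S : AddSubgroup (cV z)) : Subgroup.center ↥(cE z) ≤ pre S := fun e he => by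
  rw [mem_pre, (mk_eq_zero hJ).2 ((center_iff hJ).1 he)]
  exact zero_mem S

theorem card_pre (S : AddSubgroup (cV z)) : Nat.card ↥(pre S) = 2 * Nat.card ↥S := by
  let φ : ↥(pre S) →* Multiplicative ↥S :=
    { toFun := fun e => Multiplicative.ofAdd ⟨mk (e : ↥(cE z)), e.2⟩
      map_one' := congrArg Multiplicative.ofAdd (Subtype.ext mk_one)
      map_mul' := fun e f => congrArg Multiplicative.ofAdd (Subtype.ext (mk_mul _ _)) }
  have hs : Function.Surjective φ := fun v => by
    obtain ⟨e, he⟩ := mk_surjective ((Multiplicative.toAdd v : ↥S) : cV z)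
    exact ⟨⟨e, show mk e ∈ S from he ▸ (Multiplicative.toAdd v).2⟩, congrArg Multiplicative.ofAdd (Subtype.ext he)⟩
  have hk : φ.ker = (Subgroup.center ↥(cE z)).subgroupOf (pre S) := by
    ext e
    rw [MonoidHom.mem_ker, Subgroup.mem_subgroupOf, center_iff hJ, ← mk_eq_zero hJ]
    exact ⟨fun h => congrArg Subtype.val (congrArg Multiplicative.toAdd h),
      fun h => congrArg Multiplicative.ofAdd (Subtype.ext h)⟩
  have := φ.ker.card_mul_index
  rw [Subgroup.index_ker, MonoidHom.range_eq_top.2 hs, Subgroup.card_top, hk,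
    Nat.card_congr (Subgroup.subgroupOfEquivOfLe (center_le_pre hJ S)).toEquiv, (hE hJ).2] at this
  rw [← this]
  rfl

theorem cardV : Nat.card (cV z) = 2 ^ 12 := by
  have h := card_pre hJ (⊤ : AddSubgroup (cV z))
  rw [show pre (⊤ : AddSubgroup (cV z)) = ⊤ from eq_top_iff.2 fun _ _ => trivial,
    Subgroup.card_top, cardE hJ, AddSubgroup.card_top] at h
  omega

omit [Finite G] in
theorem pre_perp (S : AddSubgroup (cV z)) {β' : AddSubgroup (cV z)}
    (h : ∀ v, v ∈ β' ↔ ∀ s ∈ S, form hJ v s = 0) :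
    pre β' = Subgroup.centralizer (pre S : Set ↥(cE z)) := by
  ext e
  rw [mem_pre, h, Subgroup.mem_centralizer_iff]
  constructor
  · intro he f hf
    exact (pair_eq_zero.1 (he _ hf)).eq.symm
  · intro he s hs
    obtain ⟨f, rfl⟩ := mk_surjective s
    exact pair_eq_zero.2 (he f hs).symm

theorem perp_card (S β' : AddSubgroup (cV z)) (h : ∀ v, v ∈ β' ↔ ∀ s ∈ S, form hJ v s = 0) :
    Nat.card ↥S * Nat.card ↥β' = 2 ^ 12 := by
  have h1 := ExtraTwoQ.card_centralizer_mul_card (hE hJ) (center_le_pre hJ S)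
  rw [← pre_perp hJ S h, card_pre hJ, card_pre hJ, cardE hJ] at h1
  nlinarith

end Cfsg.Agent.Lib.J4Type19
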